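import Mathlib.GroupTheory.SpecificGroups.Alternating
import Mathlib.GroupTheory.Perm.Cycle.Type

/-!
# Involutions of the alternating group of degree eleven
-/

set_option autoImplicit false
set_option maxRecDepth 100000

namespace CfsgLib.Sporadic.CosetCert.LyCent

open Equiv

theorem alt_involution {σ : Perm (Fin 11)} (hs : Perm.sign σ = 1) (h : σ * σ = 1) (h1 : σ ≠ 1) :
    σ.cycleType = Multiset.replicate 2 2 ∨ σ.cycleType = Multiset.replicate 4 2 := by
  have := Fact.mk Nat.prime_two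
  have ho : orderOf σ = 2 := orderOf_eq_prime (by rw [pow_two]; exact h) h1
  obtain ⟨n, hn⟩ := Perm.cycleType_prime_order (by rw [ho]; exact Nat.prime_two)
  rw [ho] at hn
  have hsum : σ.support.card = (n + 1) * 2 := by
    rw [← Perm.sum_cycleType, hn, Multiset.sum_replicate, smul_eq_mul]
  have hle : σ.support.card ≤ 11 := (Finset.card_le_univ _).trans (by simp)
  rw [Perm.sign_of_cycleType, hn, Multiset.card_replicate, Multiset.sum_replicate, smul_eq_mul] at hs
  obtain rfl | rfl | rfl | rfl | rfl : n = 0 ∨ n = 1 ∨ n = 2 ∨ n = 3 ∨ n = 4 := by omega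
  · exact absurd hs (by decide)
  · exact Or.inl hn
  · exact absurd hs (by decide)
  · exact Or.inr hn
  · exact absurd hs (by decide)

theorem exists_odd_centraliser {σ : Perm (Fin 11)} (h : σ.cycleType = Multiset.replicate 2 2 ∨
    σ.cycleType = Multiset.replicate 4 2) : ∃ c : Perm (Fin 11), Perm.sign c = -1 ∧ c * σ * c⁻¹ = σ := by
  have hcard : 2 ≤ (σ.supportᶜ).card := by
    rw [Finset.card_compl, Fintype.card_fin, ← Perm.sum_cycleType]
    rcases h with h | h <;> rw [h] <;> decide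
  obtain ⟨a, ha, b, hb, hab⟩ := Finset.one_lt_card.1 (show 1 < (σ.supportᶜ).card by omega)
  rw [Finset.mem_compl, Perm.notMem_support] at ha hb
  refine ⟨swap a b, Perm.sign_swap hab, ?_⟩
  rw [mul_inv_eq_iff_eq_mul, swap_mul_eq_mul_swap]
  congr 2
  · exact Perm.inv_eq_iff_eq.2 ha.symm
  · exact Perm.inv_eq_iff_eq.2 hb.symm

/-- Involutions of one cycle type are conjugate by even permutations. -/
theorem alt_conj {σ τ : Perm (Fin 11)} (h : σ.cycleType = Multiset.replicate 2 2 ∨
    σ.cycleType = Multiset.replicate 4 2) (e : σ.cycleType = τ.cycleType) :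
    ∃ g, Perm.sign g = 1 ∧ g * σ * g⁻¹ = τ := by
  obtain ⟨g, hg⟩ := isConj_iff.1 (Perm.isConj_iff_cycleType_eq.2 e)
  rcases Int.units_eq_one_or (Perm.sign g) with hs | hs
  · exact ⟨g, hs, hg⟩
  · obtain ⟨c, hc, hcσ⟩ := exists_odd_centraliser h
    refine ⟨g * c, by rw [map_mul, hs, hc]; rfl, ?_⟩
    rw [show g * c * σ * (g * c)⁻¹ = g * (c * σ * c⁻¹) * g⁻¹ by group, hcσ, hg]

/-- The conjugacy as elements of the alternating group. -/
theorem alt_conj' {x y : alternatingGroup (Fin 11)} (h : (x : Perm (Fin 11)).cycleType = Multiset.replicate 2 2 ∨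
    (x : Perm (Fin 11)).cycleType = Multiset.replicate 4 2)
    (e : (x : Perm (Fin 11)).cycleType = (y : Perm (Fin 11)).cycleType) : ∃ g, g * x * g⁻¹ = y := by
  obtain ⟨g, hg, hge⟩ := alt_conj h e
  exact ⟨⟨g, Perm.mem_alternatingGroup.2 hg⟩, Subtype.ext hge⟩

end CfsgLib.Sporadic.CosetCert.LyCent
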