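import Cfsg.Agent.Lib.Sporadic.LyCent.Centraliser
import Cfsg.Agent.Lib.Sporadic.LyCent.AltInvolutions
import Mathlib.GroupTheory.Sylow

/-!
# One class of involutions in a simple presented Lyons group
-/

set_option autoImplicit false
set_option maxRecDepth 100000

namespace CfsgLib.Sporadic.CosetCert.LyCent

open LyG2Five LyIndex Cfsg.Spor Equiv

attribute [local instance] factPrimeFive

attribute [local irreducible] rep vv V W

/-- The projection of the centraliser. -/
theorem exists_proj (hLy : Cfsg.IsLy LyP) : ∃ f : CT →* alternatingGroup (Fin 11),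
    Function.Surjective f ∧ (∀ c, f c = 1 ↔ ((c : LyP) = 1 ∨ (c : LyP) = T)) ∧ ∀ i, f (vC hLy i) = cyc i := by
  obtain ⟨e, he⟩ := exists_iso hLy
  refine ⟨e.symm.toMonoidHom.comp (QuotientGroup.mk' Z0),
    e.symm.surjective.comp (QuotientGroup.mk'_surjective _), fun c => ?_, fun i => ?_⟩
  · show e.symm (QuotientGroup.mk c) = 1 ↔ _
    rw [map_eq_one_iff _ e.symm.injective, QuotientGroup.eq_one_iff, mem_Z0]
  · show e.symm (QuotientGroup.mk (vC hLy i)) = _
    rw [← he, e.symm_apply_apply]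

theorem cyc_pair_type : ((cyc 0 * cyc 1 : alternatingGroup (Fin 11)) : Perm (Fin 11)).cycleType =
    Multiset.replicate 2 2 := by decide +kernel

theorem proj_eq {f : CT →* alternatingGroup (Fin 11)}
    (hker : ∀ c, f c = 1 ↔ ((c : LyP) = 1 ∨ (c : LyP) = T)) {a b : CT} (h : f a = f b) :
    (a : LyP) = b ∨ (a : LyP) = b * T := by
  rcases (hker (b⁻¹ * a)).1 (by rw [map_mul, map_inv, h, inv_mul_cancel]) with e | e
  · exact Or.inl (inv_mul_eq_one.1 e).symm
  · exact Or.inr (inv_mul_eq_iff_eq_mul.1 e)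

theorem sq_four (hLy : Cfsg.IsLy LyP) {f : CT →* alternatingGroup (Fin 11)} (hf : Function.Surjective f)
    (hker : ∀ c, f c = 1 ↔ ((c : LyP) = 1 ∨ (c : LyP) = T)) (hcyc : ∀ i, f (vC hLy i) = cyc i)
    {u : CT} (hu : (f u : Perm (Fin 11)).cycleType = Multiset.replicate 2 2) : (u : LyP) * u = T := by
  obtain ⟨g, hg⟩ := alt_conj' (x := cyc 0 * cyc 1) (Or.inl cyc_pair_type) (cyc_pair_type.trans hu.symm)
  obtain ⟨c, rfl⟩ := hf g
  have hsq : (((c * (vC hLy 0 * vC hLy 1) * c⁻¹ : CT)) : LyP) * ((c * (vC hLy 0 * vC hLy 1) * c⁻¹ : CT) : LyP) = T := by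
    simp only [Subgroup.coe_mul, Subgroup.coe_inv]
    calc (c : LyP) * (vv 0 * vv 1) * (c : LyP)⁻¹ * ((c : LyP) * (vv 0 * vv 1) * (c : LyP)⁻¹)
        = (c : LyP) * ((vv 0 * vv 1) * (vv 0 * vv 1)) * (c : LyP)⁻¹ := by group
      _ = T := by
        rw [show (vv 0 * vv 1) * (vv 0 * vv 1) = T from pair_T hLy (i := 0) (j := 1) (by decide),
          Subgroup.mem_centralizer_singleton_iff.1 c.2, mul_inv_cancel_right]
  rcases proj_eq hker (a := u) (b := c * (vC hLy 0 * vC hLy 1) * c⁻¹)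
    (by rw [map_mul, map_mul, map_mul, map_inv, hcyc, hcyc, hg]) with e | e <;> rw [e]
  · exact hsq
  · set b := ((c * (vC hLy 0 * vC hLy 1) * c⁻¹ : CT) : LyP)
    have hb : b * T = T * b := Subgroup.mem_centralizer_singleton_iff.1 (Subtype.prop _)
    calc b * T * (b * T) = b * (T * b) * T := by group
      _ = b * b * (T * T) := by rw [← hb]; group
      _ = T := by rw [T_sq, mul_one, hsq]

theorem invol_type (hLy : Cfsg.IsLy LyP) {f : CT →* alternatingGroup (Fin 11)} (hf : Function.Surjective f)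
    (hker : ∀ c, f c = 1 ↔ ((c : LyP) = 1 ∨ (c : LyP) = T)) (hcyc : ∀ i, f (vC hLy i) = cyc i)
    {u : CT} (hu : (u : LyP) * u = 1) (hu1 : (u : LyP) ≠ 1) (huT : (u : LyP) ≠ T) :
    (f u : Perm (Fin 11)).cycleType = Multiset.replicate 4 2 := by
  have hne : (f u : Perm (Fin 11)) ≠ 1 := fun e => by
    rcases (hker u).1 (Subtype.ext e) with h | h
    · exact hu1 h
    · exact huT h
  have hsq : (f u : Perm (Fin 11)) * f u = 1 := by
    rw [← Subgroup.coe_mul, ← map_mul, show u * u = 1 from Subtype.ext hu, map_one]; rfl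
  exact (alt_involution (Perm.mem_alternatingGroup.1 (f u).2) hsq hne).resolve_left fun h =>
    T_ne ((sq_four hLy hf hker hcyc h).symm.trans hu)

theorem E_conj {x : E} (hx : x * x = 1) (hx1 : x ≠ 1) : IsConj T (gE x) :=
  gE.map_isConj (involutions_conj t0_sq.1 t0_sq.2 hx hx1)

theorem conj_in_CT (hLy : Cfsg.IsLy LyP) {u : CT} (hu : (u : LyP) * u = 1) (hu1 : (u : LyP) ≠ 1) :
    IsConj T (u : LyP) := by
  obtain ⟨f, hf, hker, hcyc⟩ := exists_proj hLy
  by_cases huT : (u : LyP) = T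
  · rw [huT]
  obtain ⟨j1, j2, j3, j4⟩ := j0_spec
  let J : CT := ⟨gE j0, Subgroup.mem_centralizer_singleton_iff.2 (by rw [T, ← map_mul, ← map_mul, j4])⟩
  have hJ : (f J : Perm (Fin 11)).cycleType = Multiset.replicate 4 2 :=
    invol_type hLy hf hker hcyc (u := J) (by show gE j0 * gE j0 = 1; rw [← map_mul, j1, map_one])
      (fun e => j2 (gE_injective (e.trans (map_one gE).symm))) (fun e => j3 (gE_injective e))
  obtain ⟨g, hg⟩ := alt_conj' (x := f J) (Or.inr hJ) (hJ.trans (invol_type hLy hf hker hcyc hu hu1 huT).symm)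
  obtain ⟨c, rfl⟩ := hf g
  have key : ∀ x : LyP, IsConj x ((c : LyP) * x * (c : LyP)⁻¹) := fun x => isConj_iff.2 ⟨c, rfl⟩
  rcases proj_eq hker (a := u) (b := c * J * c⁻¹) (by rw [map_mul, map_mul, map_inv, hg]) with e | e <;> rw [e]
  · simp only [Subgroup.coe_mul, Subgroup.coe_inv]
    exact (E_conj j1 j2).trans (key _)
  · simp only [Subgroup.coe_mul, Subgroup.coe_inv]
    have h1 : j0 * t0 * (j0 * t0) = 1 := by
      rw [show j0 * t0 * (j0 * t0) = j0 * (t0 * j0) * t0 by group, ← j4,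
        show j0 * (j0 * t0) * t0 = j0 * j0 * (t0 * t0) by group, j1, t0_sq.1, one_mul]
    have h2 : j0 * t0 ≠ 1 := fun e => j3 (mul_eq_one_iff_eq_inv.1 e |>.trans (inv_eq_of_mul_eq_one_right t0_sq.1))
    have e' : (c : LyP) * gE j0 * (c : LyP)⁻¹ * T = (c : LyP) * gE (j0 * t0) * (c : LyP)⁻¹ := by
      have hc := Subgroup.mem_centralizer_singleton_iff.1 (inv_mem c.2)
      rw [map_mul, ← T, mul_assoc, mul_assoc, hc]
      group
    rw [show ((J : CT) : LyP) = gE j0 from rfl, e']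
    exact (E_conj h1 h2).trans (key _)

/-- All involutions are conjugate. -/
theorem all_conj (hLy : Cfsg.IsLy LyP) {x : LyP} (hx : orderOf x = 2) : IsConj T x := by
  have := finite_LyP hLy
  have := Fact.mk Nat.prime_two
  obtain ⟨P⟩ : Nonempty (Sylow 2 CT) := inferInstance
  have hfac : (Nat.card LyP).factorization 2 = (Nat.card CT).factorization 2 := by
    rw [hLy.2, card_CT hLy,
      show (51765179004000000 : ℕ) = 39916800 * 1296826875 by norm_num,
      Nat.factorization_mul (by norm_num) (by norm_num), Finsupp.add_apply,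
      Nat.factorization_eq_zero_of_not_dvd (show ¬ 2 ∣ 1296826875 by norm_num), add_zero]
  let S : Sylow 2 LyP := Sylow.ofCard ((P : Subgroup CT).map CT.subtype) (by
    rw [Subgroup.card_map_of_injective (Subgroup.subtype_injective _), P.card_eq_multiplicity, hfac])
  have hp : IsPGroup 2 (Subgroup.zpowers x) := IsPGroup.of_card (n := 1) (by rw [Nat.card_zpowers, hx, pow_one])
  obtain ⟨Q, hQ⟩ := hp.exists_le_sylow
  obtain ⟨c, rfl⟩ := MulAction.exists_smul_eq LyP S Q
  have hm := hQ (Subgroup.mem_zpowers x)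
  rw [Sylow.coe_subgroup_smul, Subgroup.mem_pointwise_smul_iff_inv_smul_mem] at hm
  obtain ⟨u, -, hu⟩ := hm
  have hu' : (u : LyP) = c⁻¹ * x * c := by
    rw [show (u : LyP) = CT.subtype u from rfl, hu, MulAut.smul_def]
    simp
  have hxx : x * x = 1 := by rw [← pow_two, ← hx, pow_orderOf_eq_one]
  refine (conj_in_CT hLy (u := u) ?_ ?_).trans (isConj_iff.2 ⟨c, by rw [hu']; group⟩)
  · rw [hu', show c⁻¹ * x * c * (c⁻¹ * x * c) = c⁻¹ * (x * x) * c by group, hxx]; group
  · intro e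
    rw [hu'] at e
    have : x = 1 := by
      calc x = c * (c⁻¹ * x * c) * c⁻¹ := by group
        _ = 1 := by rw [e]; group
    rw [this, orderOf_one] at hx
    omega

end CfsgLib.Sporadic.CosetCert.LyCent
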