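import Cfsg.Agent.Lib.Presentations.Carmichael

/-!
# Nine elements with Carmichael's relations give the alternating group of degree eleven
-/

set_option autoImplicit false
set_option maxRecDepth 100000

namespace CfsgLib.Sporadic.CosetCert.LyCent

open CfsgLib.Presentations

/-- The three-cycles through two fixed points. -/
def cyc (i : Fin 9) : alternatingGroup (Fin 11) :=
  ⟨three 0 1 ⟨(i : ℕ) + 2, by omega⟩, Equiv.Perm.mem_alternatingGroup.2 (sign_three (by decide) (by
    intro e
    have := congrArg Fin.val e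
    simp at this))⟩

theorem cyc_closure : Subgroup.closure (Set.range cyc) = ⊤ := by
  apply Subgroup.map_injective (alternatingGroup (Fin 11)).subtype_injective
  rw [← MonoidHom.range_eq_map, Subgroup.range_subtype, MonoidHom.map_closure]
  refine le_antisymm ((Subgroup.closure_le _).2 ?_) ?_
  · rintro _ ⟨c, -, rfl⟩
    exact c.2
  refine le_trans (b := altOn (Finset.univ : Finset (Fin 11)))
    (fun g hg => ⟨Equiv.Perm.mem_alternatingGroup.1 hg, fun z hz => absurd (Finset.mem_univ z) hz⟩)
    (altOn_le_of_pivot (S := Finset.univ) (a := 0) (b := 1) (Finset.mem_univ _) (Finset.mem_univ _)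
      (by decide) fun i _ h0 h1 => ?_)
  have hi : 2 ≤ (i : ℕ) := by
    rcases Nat.lt_or_ge (i : ℕ) 2 with h | h
    · interval_cases hv : (i : ℕ)
      · exact absurd (Fin.ext hv) h0
      · exact absurd (Fin.ext hv) h1
    · exact h
  refine Subgroup.subset_closure ⟨cyc ⟨(i : ℕ) - 2, by omega⟩, ⟨_, rfl⟩, ?_⟩
  show three 0 1 _ = three 0 1 i
  congr 1
  exact Fin.ext (by simp only; omega)

theorem cyc_cube : ∀ i, cyc i ^ 3 = 1 := by decide +kernel

theorem cyc_pair : ∀ i j, i ≠ j → (cyc i * cyc j) ^ 2 = 1 := by decide +kernel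

theorem card_alt11 : Nat.card (alternatingGroup (Fin 11)) = 19958400 := by
  rw [nat_card_alternatingGroup, Nat.card_eq_fintype_card, Fintype.card_fin]
  rfl

/-- The homomorphism, with the images of the three-cycles. -/
theorem exists_hom {Q : Type*} [Group Q] (q : Fin 9 → Q) (h3 : ∀ i, q i ^ 3 = 1)
    (h2 : ∀ i j, i ≠ j → (q i * q j) ^ 2 = 1) :
    ∃ ψ : alternatingGroup (Fin 11) →* Q, ∀ i, ψ (cyc i) = q i := by
  classical
  let pr : Fin 9 → alternatingGroup (Fin 11) × Q := fun i => (cyc i, q i)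
  let s : Finset (alternatingGroup (Fin 11) × Q) := Finset.univ.image pr
  have h3' : ∀ a ∈ s, a ^ 3 = 1 := by
    intro a ha
    obtain ⟨i, -, rfl⟩ := Finset.mem_image.1 ha
    exact Prod.ext (cyc_cube i) (h3 i)
  have h2' : ∀ a ∈ s, ∀ b ∈ s, a ≠ b → (a * b) ^ 2 = 1 := by
    intro a ha b hb hab
    obtain ⟨i, -, rfl⟩ := Finset.mem_image.1 ha
    obtain ⟨j, -, rfl⟩ := Finset.mem_image.1 hb
    have hij : i ≠ j := fun e => hab (e ▸ rfl)
    exact Prod.ext (cyc_pair i j hij) (h2 i j hij)
  obtain ⟨hfin, hle⟩ := closure_bound s ⟨pr 0, Finset.mem_image_of_mem _ (Finset.mem_univ _)⟩ h3' h2'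
  obtain ⟨Γ, hΓ⟩ : ∃ Γ, Γ = Subgroup.closure (s : Set (alternatingGroup (Fin 11) × Q)) := ⟨_, rfl⟩
  rw [← hΓ] at hfin hle
  let p : Γ →* alternatingGroup (Fin 11) := (MonoidHom.fst _ _).comp Γ.subtype
  have hsurj : Function.Surjective p := by
    rw [← MonoidHom.range_eq_top, MonoidHom.range_comp, Subgroup.range_subtype, hΓ, MonoidHom.map_closure,
      Finset.coe_image, Finset.coe_univ, Set.image_univ, ← Set.range_comp, eq_top_iff, ← cyc_closure]
    exact le_of_eq rfl
  have hscard : s.card ≤ 9 := le_trans Finset.card_image_le (by simp)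
  have hbij : Function.Bijective p := (Nat.bijective_iff_surjective_and_card p).2 ⟨hsurj,
    le_antisymm (by
      have := hle.trans (Nat.factorial_le (by omega : s.card + 2 ≤ 11))
      have e : Nat.factorial 11 = 39916800 := rfl
      rw [card_alt11]
      omega) (Nat.card_le_card_of_surjective p hsurj)⟩
  let e : Γ ≃* alternatingGroup (Fin 11) := MulEquiv.ofBijective p hbij
  refine ⟨((MonoidHom.snd _ Q).comp Γ.subtype).comp e.symm.toMonoidHom, fun i => ?_⟩
  let x : Γ := ⟨pr i, hΓ ▸ Subgroup.subset_closure (Finset.mem_coe.2 (Finset.mem_image_of_mem _ (Finset.mem_univ _)))⟩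
  show ((e.symm (e x) : Γ) : alternatingGroup (Fin 11) × Q).2 = q i
  rw [e.symm_apply_apply]

end CfsgLib.Sporadic.CosetCert.LyCent
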