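import Cfsg.Agent.Lib.Sporadic.LyCent.Cover
import Cfsg.Agent.Lib.Sporadic.LyCent.AltEleven
import Cfsg.Prelude.Def_SporadicB

/-!
# In a simple presented Lyons group the centraliser of an involution is a double cover of A₁₁

and all involutions are conjugate.
-/

set_option autoImplicit false
set_option maxRecDepth 100000

namespace CfsgLib.Sporadic.CosetCert.LyCent

open LyG2Five LyIndex Cfsg.Spor

attribute [local instance] factPrimeFive

attribute [local irreducible] rep vv V W

theorem t0_sq : t0 * t0 = 1 ∧ t0 ≠ 1 := by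
  have h1 : PackedMatrix.eqList (wordM [0, 0, 0, 0, 0, 0, 0, 0]) one14 = true := by decide +kernel
  have h2 : PackedMatrix.eqList (wordM [0, 0, 0, 0]) one14 = false := by decide +kernel
  have e8 : t0 * t0 = wordE [0, 0, 0, 0, 0, 0, 0, 0] := by simp [t0, wordE, mul_assoc]
  have e4 : t0 = wordE [0, 0, 0, 0] := by simp [t0, wordE, mul_assoc]
  constructor
  · rw [e8]
    exact stands_eq (stands_word _) ((PackedMatrix.eqList_spec _ _ h1).symm ▸ stands_one)
  · intro e
    have := md14_inj (stands_word [0, 0, 0, 0]).1 stands_one.1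
      (by rw [← (stands_word _).2, ← stands_one.2, ← e4, e])
    rw [this, eqList_refl] at h2
    exact absurd h2 (by decide)

theorem T_sq : T * T = 1 := by rw [T, ← map_mul, t0_sq.1, map_one]

theorem T_ne : T ≠ 1 := fun e => t0_sq.2 (gE_injective (e.trans (map_one gE).symm))

theorem T_inv : T⁻¹ = T := inv_eq_of_mul_eq_one_right T_sq

/-- The involution of the subgroup commuting with the first one. -/
noncomputable def j0 : E := wordE wJ

theorem j0_spec : j0 * j0 = 1 ∧ j0 ≠ 1 ∧ j0 ≠ t0 ∧ j0 * t0 = t0 * j0 := by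
  have h1 : PackedMatrix.eqList (wordM (wJ ++ wJ)) one14 = true := by decide +kernel
  have h2 : PackedMatrix.eqList (wordM wJ) one14 = false := by decide +kernel
  have h3 : PackedMatrix.eqList (wordM wJ) (wordM [0, 0, 0, 0]) = false := by decide +kernel
  have h4 : PackedMatrix.eqList (wordM (wJ ++ [0, 0, 0, 0])) (wordM ([0, 0, 0, 0] ++ wJ)) = true := by decide +kernel
  have e4 : t0 = wordE [0, 0, 0, 0] := by simp [t0, wordE, mul_assoc]
  have hw : ∀ A B : List ℕ, wordE (A ++ B) = wordE A * wordE B := fun A B => by simp [wordE]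
  refine ⟨?_, fun e => ?_, fun e => ?_, ?_⟩
  · rw [j0, ← hw]
    exact stands_eq (stands_word _) ((PackedMatrix.eqList_spec _ _ h1).symm ▸ stands_one)
  · have := md14_inj (stands_word wJ).1 stands_one.1 (by rw [← (stands_word _).2, ← stands_one.2, ← j0, e])
    rw [this, eqList_refl] at h2
    exact absurd h2 (by decide)
  · have := md14_inj (stands_word wJ).1 (stands_word [0, 0, 0, 0]).1
      (by rw [← (stands_word _).2, ← (stands_word _).2, ← j0, e, ← e4])
    rw [this, eqList_refl] at h3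
    exact absurd h3 (by decide)
  · rw [j0, e4, ← hw, ← hw]
    exact stands_eq (stands_word _) ((PackedMatrix.eqList_spec _ _ h4).symm ▸ stands_word _)

/-- The centraliser of the involution. -/
noncomputable abbrev CT : Subgroup LyP := Subgroup.centralizer ({T} : Set LyP)

/-- The involution in its centraliser. -/
noncomputable def tC : CT := ⟨T, Subgroup.mem_centralizer_singleton_iff.2 rfl⟩

/-- The subgroup of the involution. -/
noncomputable abbrev Z0 : Subgroup CT := Subgroup.zpowers tC

theorem tC_comm (c : CT) : c * tC = tC * c :=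
  Subtype.ext (Subgroup.mem_centralizer_singleton_iff.1 c.2)

instance Z0_normal : Z0.Normal := ⟨fun z hz g => by
  obtain ⟨n, rfl⟩ := Subgroup.mem_zpowers_iff.1 hz
  have h : Commute g (tC ^ n) := (show Commute g tC from tC_comm g).zpow_right n
  rw [h.eq, mul_inv_cancel_right]
  exact zpow_mem (Subgroup.mem_zpowers _) n⟩

theorem mem_Z0 {c : CT} : c ∈ Z0 ↔ (c : LyP) = 1 ∨ (c : LyP) = T := by
  constructor
  · intro h
    obtain ⟨n, rfl⟩ := Subgroup.mem_zpowers_iff.1 h
    have h2 : tC ^ (2 : ℤ) = 1 := by rw [zpow_two]; exact Subtype.ext T_sq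
    rcases Int.even_or_odd' n with ⟨m, rfl | rfl⟩
    · left; rw [zpow_mul, h2, one_zpow]; rfl
    · right; rw [zpow_add, zpow_mul, h2, one_zpow, one_mul, zpow_one]; rfl
  · rintro (h | h)
    · rw [show c = 1 from Subtype.ext h]; exact one_mem _
    · rw [show c = tC from Subtype.ext h]; exact Subgroup.mem_zpowers _

theorem card_Z0 : Nat.card Z0 = 2 := by
  have : Fact (Nat.Prime 2) := ⟨Nat.prime_two⟩
  rw [Nat.card_zpowers]
  exact orderOf_eq_prime (by rw [pow_two]; exact Subtype.ext T_sq) fun e => T_ne (congrArg Subtype.val e)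

theorem finite_LyP (hLy : Cfsg.IsLy LyP) : Finite LyP :=
  Nat.finite_of_card_ne_zero (by rw [hLy.2]; norm_num)

theorem comm_T (hLy : Cfsg.IsLy LyP) {i : ℕ} (hi : i < 9) : vv i * T = T * vv i := by
  have h := mul_inv_eq_one.1 (vv_comm hLy hi)
  calc vv i * T = T * (T * vv i * T) := by rw [← mul_assoc, ← mul_assoc, T_sq, one_mul]
    _ = T * vv i := by rw [h]

/-- The nine elements in the centraliser. -/
noncomputable def vC (hLy : Cfsg.IsLy LyP) (i : Fin 9) : CT :=
  ⟨vv i, Subgroup.mem_centralizer_singleton_iff.2 (comm_T hLy i.2)⟩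

theorem pair_T (hLy : Cfsg.IsLy LyP) {i j : Fin 9} (hij : i ≠ j) : (vv i * vv j) * (vv i * vv j) = T := by
  have key : ∀ {a b : ℕ}, a < b → b < 9 → (vv a * vv b) * (vv a * vv b) = T := fun {a b} hab hb => by
    have h := eq_inv_of_mul_eq_one_left (vv_pair_lt hLy hab hb)
    rw [T_inv] at h
    rw [← h]; group
  rcases lt_or_gt_of_ne (fun e : (i : ℕ) = j => hij (Fin.ext e)) with h | h
  · exact key h j.2
  · have h1 := key h i.2
    calc vv i * vv j * (vv i * vv j) = (vv j)⁻¹ * (vv j * vv i * (vv j * vv i)) * vv j := by group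
      _ = (vv j)⁻¹ * T * vv j := by rw [h1]
      _ = T := by rw [mul_assoc, ← comm_T hLy j.2, ← mul_assoc, inv_mul_cancel, one_mul]

theorem vv_not_Z0 (hLy : Cfsg.IsLy LyP) (i : Fin 9) : vC hLy i ∉ Z0 := by
  intro h
  have hone : vv i = 1 := by
    rcases mem_Z0.1 h with e | e
    · exact e
    · exfalso
      have e' : vv i = T := e
      have := vv_cube hLy i.2
      rw [e', pow_succ, pow_two, T_sq, one_mul] at this
      exact T_ne this
  obtain ⟨j, hj⟩ : ∃ j : Fin 9, i ≠ j := ⟨i + 1, (by decide : ∀ i : Fin 9, i ≠ i + 1) i⟩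
  have hp := pair_T hLy hj
  rw [hone, one_mul] at hp
  have h3 := vv_cube hLy j.2
  rw [pow_succ, pow_two, hp] at h3
  have hT : vv j = T := by rw [← T_inv]; exact eq_inv_of_mul_eq_one_right h3
  rw [hT, T_sq] at hp
  exact T_ne hp.symm

/-- The embedding of the alternating group. -/
theorem exists_psi (hLy : Cfsg.IsLy LyP) : ∃ ψ : alternatingGroup (Fin 11) →* CT ⧸ Z0,
    Function.Injective ψ ∧ ∀ i, ψ (cyc i) = QuotientGroup.mk (vC hLy i) := by
  obtain ⟨ψ, hψ⟩ := exists_hom (fun i => (QuotientGroup.mk (vC hLy i) : CT ⧸ Z0))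
    (fun i => by
      rw [← QuotientGroup.mk_pow, QuotientGroup.eq_one_iff, mem_Z0]
      exact Or.inl (vv_cube hLy i.2))
    (fun i j hij => by
      rw [← QuotientGroup.mk_mul, ← QuotientGroup.mk_pow, QuotientGroup.eq_one_iff, mem_Z0, pow_two]
      exact Or.inr (pair_T hLy hij))
  refine ⟨ψ, ?_, hψ⟩
  have hs : IsSimpleGroup (alternatingGroup (Fin 11)) := alternatingGroup.isSimpleGroup (by simp)
  rw [← MonoidHom.ker_eq_bot_iff]
  refine (ψ.normal_ker.eq_bot_or_eq_top).resolve_right fun h => vv_not_Z0 hLy 0 ?_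
  rw [← QuotientGroup.eq_one_iff, ← hψ 0]
  exact MonoidHom.mem_ker.1 (h ▸ Subgroup.mem_top _)

theorem card_CT (hLy : Cfsg.IsLy LyP) : Nat.card CT = 39916800 := by
  have := finite_LyP hLy
  obtain ⟨ψ, hψ, -⟩ := exists_psi hLy
  have h1 : 19958400 ∣ Nat.card (CT ⧸ Z0) := by
    rw [← card_alt11, Nat.card_congr (MonoidHom.ofInjective hψ).toEquiv]
    exact Subgroup.card_subgroup_dvd_card _
  have h2 := Subgroup.card_eq_card_quotient_mul_card_subgroup Z0
  rw [card_Z0] at h2
  have h3 : Nat.card CT ∣ 51765179004000000 := hLy.2 ▸ Subgroup.card_subgroup_dvd_card _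
  have h4 : Nat.card CT ≤ 14400 * 6807 := centralizer_bound (index_Hs hLy) t0_sq.1 t0_sq.2
  obtain ⟨m, hm⟩ := h1
  rw [hm] at h2
  have hpos : 0 < Nat.card CT := Nat.card_pos
  rw [h2] at h3 h4 hpos ⊢
  have : m < 3 := by omega
  have : 0 < m := by omega
  interval_cases m
  · rfl
  · exfalso; revert h3; norm_num

/-- The centraliser modulo the involution is the alternating group, the three-cycles going to the nine elements. -/
theorem exists_iso (hLy : Cfsg.IsLy LyP) : ∃ e : alternatingGroup (Fin 11) ≃* CT ⧸ Z0,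
    ∀ i, e (cyc i) = QuotientGroup.mk (vC hLy i) := by
  have := finite_LyP hLy
  obtain ⟨ψ, hψ, hψc⟩ := exists_psi hLy
  have h2 := Subgroup.card_eq_card_quotient_mul_card_subgroup Z0
  rw [card_Z0, card_CT hLy] at h2
  exact ⟨MulEquiv.ofBijective ψ (hψ.bijective_of_nat_card_le (by rw [card_alt11]; omega)), hψc⟩

theorem center_CT (hLy : Cfsg.IsLy LyP) : Subgroup.center CT = Z0 := by
  refine le_antisymm (fun c hc => ?_) (Subgroup.zpowers_le.2 (Subgroup.mem_center_iff.2 tC_comm))
  obtain ⟨e, -⟩ := exists_iso hLy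
  rw [← QuotientGroup.eq_one_iff]
  have hcen : e.symm (QuotientGroup.mk c) ∈ Subgroup.center (alternatingGroup (Fin 11)) := by
    rw [Subgroup.mem_center_iff]
    intro a
    obtain ⟨g, hg⟩ := QuotientGroup.mk_surjective (e a)
    apply e.injective
    rw [map_mul, map_mul, e.apply_symm_apply, ← hg, ← QuotientGroup.mk_mul, ← QuotientGroup.mk_mul,
      Subgroup.mem_center_iff.1 hc g]
  have hbot : Subgroup.center (alternatingGroup (Fin 11)) = ⊥ := by
    have hs : IsSimpleGroup (alternatingGroup (Fin 11)) := alternatingGroup.isSimpleGroup (by simp)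
    refine (Subgroup.Normal.eq_bot_or_eq_top inferInstance).resolve_right fun h => ?_
    have hc := Subgroup.mem_center_iff.1 (show cyc 0 ∈ Subgroup.center _ by rw [h]; exact Subgroup.mem_top _) (cyc 1)
    exact absurd hc (by decide +kernel)
  rw [hbot, Subgroup.mem_bot, map_eq_one_iff _ e.symm.injective] at hcen
  exact hcen

theorem double_cover (hLy : Cfsg.IsLy LyP) : Cfsg.IsNonsplitDoubleCover CT (alternatingGroup (Fin 11)) := by
  have := finite_LyP hLy
  have hc := center_CT hLy
  obtain ⟨e, he⟩ := exists_iso hLy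
  refine ⟨by rw [hc, card_Z0], ⟨(QuotientGroup.quotientMulEquivOfEq hc).trans e.symm⟩, fun L hL => ?_⟩
  rw [hc] at hL
  let a : CT := vC hLy 0 * vC hLy 1
  obtain ⟨⟨z, l⟩, hzl⟩ := hL.2 a
  have hzl' : (z : CT) * (l : CT) = a := hzl
  have hz : Commute (z : CT) (l : CT) := by
    obtain ⟨n, hn⟩ := Subgroup.mem_zpowers_iff.1 z.2
    rw [← hn]
    exact ((show Commute (l : CT) tC from tC_comm _).zpow_right n).symm
  have hz2 : (z : CT) * z = 1 := by
    rcases mem_Z0.1 z.2 with h | h
    · exact Subtype.ext (by rw [Subgroup.coe_mul, h, one_mul]; rfl)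
    · exact Subtype.ext (by rw [Subgroup.coe_mul, h, T_sq]; rfl)
  have haa : a * a = tC := Subtype.ext (pair_T hLy (i := 0) (j := 1) (by decide))
  have hl : (l : CT) * l = tC := by
    rw [← haa, ← hzl']
    calc (l : CT) * l = (z : CT) * z * (l * l) := by rw [hz2, one_mul]
      _ = z * (z * l) * l := by simp only [mul_assoc]
      _ = z * (l * z) * l := by rw [hz.eq]
      _ = z * l * (z * l) := by simp only [mul_assoc]
  have hmem : tC ∈ Z0 ⊓ L := ⟨Subgroup.mem_zpowers _, hl ▸ mul_mem l.2 l.2⟩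
  rw [hL.disjoint.eq_bot, Subgroup.mem_bot] at hmem
  exact T_ne (congrArg Subtype.val hmem)

end CfsgLib.Sporadic.CosetCert.LyCent
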