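import Cfsg.Agent.Lib.Sporadic.LyCent.Fixed
import Cfsg.Agent.Lib.Sporadic.LyCent.Checks.Base
import Cfsg.Agent.Lib.Sporadic.LyCent.Checks.ThreeA
import Cfsg.Agent.Lib.Sporadic.LyCent.Checks.ThreeB
import Cfsg.Agent.Lib.Sporadic.LyCent.Checks.Pairs
import Cfsg.Agent.Lib.Sporadic.LyG2Five.Rep

/-!
# Nine elements of the presented Lyons group that satisfy Carmichael's relations modulo an involution

Their relations hold in the representation of degree 111, which is faithful when the group is simple.
-/

set_option autoImplicit false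
set_option maxRecDepth 100000

namespace CfsgLib.Sporadic.CosetCert.LyCent

open LyG2Five LyIndex WideMatrix Cfsg.Spor

attribute [local instance] factPrimeFive

attribute [local irreducible] WideMatrix.mul okRows prodW oneW lane dec mT mW mWi mV mVi mA mAi

/-- The representation of degree 111. -/
noncomputable def rep : LyP →* M111ˣ := PresentedGroup.toGroup rels111

theorem rep_fG : ∀ y : G7, rep (fG y) = u111 y := by
  intro y
  have e : fG y = (PresentedGroup.of (back y) : LyP) := by cases y <;> rfl
  rw [rep, e, PresentedGroup.toGroup.of]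
  cases y <;> exact FreeGroup.lift_apply_of

attribute [local irreducible] rep u111

theorem rep_gL : ∀ x, (rep (gL x)).val = md111 (lett111 x) := by
  intro x
  have h : rep (gL x) = g13 x := by
    match x with
    | 0 | 1 | 2 | 3 | 4 | 5 | 6 | 7 | 8 | 9 | 10 | 11 | 12 =>
      simp only [gL, g13, List.getD_cons_zero, List.getD_cons_succ, map_inv, rep_fG]
    | k + 13 => simp only [gL, g13, List.getD_cons_succ, List.getD_nil, map_one]
  rw [h]
  exact g13_val x

/-- A matrix standing for an element. -/
def Means (A : List ℕ) (g : LyP) : Prop := okRows 111 A = true ∧ (rep g).val = md111 A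

theorem means_gL (x : ℕ) : Means (lett111 x) (gL x) := ⟨ok_all111 x, rep_gL x⟩

theorem means_prod : ∀ {L : List (List ℕ)} {l : List LyP}, List.Forall₂ Means L l →
    (L.map md111).prod = (rep l.prod).val := by
  intro L l h
  induction h with
  | nil => simp
  | cons h1 _ ih => rw [List.map_cons, List.prod_cons, List.prod_cons, map_mul, Units.val_mul, h1.2, ih]

theorem means_ok {L : List (List ℕ)} {l : List LyP} (h : List.Forall₂ Means L l) :
    ∀ B ∈ L, okRows 111 B = true := by
  induction h with
  | nil => simp
  | cons h1 _ ih =>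
    intro B hB
    rcases List.mem_cons.1 hB with rfl | hB
    · exact h1.1
    · exact ih B hB

/-- A checked product is killed by the representation. -/
theorem rep_one {L : List (List ℕ)} {l : List LyP} (h : List.Forall₂ Means L l) (hc : isOne111 L = true) :
    rep l.prod = 1 :=
  Units.ext ((means_prod h).symm.trans (isOne111_spec (means_ok h) hc))

theorem means_letts : ∀ L : List ℕ, List.Forall₂ Means (letts L) (L.map gL) := by
  intro L
  induction L with
  | nil => exact List.Forall₂.nil
  | cons x t ih => exact List.Forall₂.cons (means_gL x) ih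

theorem means_append {A B : List (List ℕ)} {a b : List LyP} (h : List.Forall₂ Means A a)
    (h' : List.Forall₂ Means B b) : List.Forall₂ Means (A ++ B) (a ++ b) := List.rel_append h h'

/-- The inverse of a meaning, from a checked product. -/
theorem means_inv {L : List (List ℕ)} {l : List LyP} {A : List ℕ} (h : List.Forall₂ Means L l)
    (hA : okRows 111 A = true) (hc : isOne111 (L ++ [A]) = true) : Means A l.prod⁻¹ := by
  refine ⟨hA, ?_⟩
  have hL : ∀ B ∈ L ++ [A], okRows 111 B = true := fun B hB => by
    rcases List.mem_append.1 hB with hB | hB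
    · exact means_ok h B hB
    · rw [List.mem_singleton.1 hB]; exact hA
  have e := isOne111_spec hL hc
  rw [List.map_append, List.prod_append, means_prod h, List.map_singleton, List.prod_singleton] at e
  rw [map_inv]
  exact Units.inv_eq_of_mul_eq_one_right e

/-- The inverse of an element with a meaning. -/
theorem means_of_inv {A B : List ℕ} {g : LyP} (hA : okRows 111 A = true) (hB : Means B g⁻¹)
    (hc : isOne111 [A, B] = true) : Means A g := by
  refine ⟨hA, ?_⟩
  have e := isOne111_spec (L := [A, B]) (by simp [hA, hB.1]) hc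
  simp only [List.map_cons, List.map_nil, List.prod_cons, List.prod_nil, mul_one] at e
  rw [← hB.2, map_inv] at e
  exact (Units.mul_inv_eq_one.1 e).symm

/-- The involution, in the subgroup. -/
noncomputable def t0 : E := el 0 * el 0 * el 0 * el 0

/-- The involution. -/
noncomputable def T : LyP := gE t0

/-- The element whose power has order three. -/
noncomputable def W : LyP := (wW.map gL).prod

/-- The element of order three. -/
noncomputable def V : LyP := W ^ wE

/-- The nine elements. -/
noncomputable def vv (i : ℕ) : LyP :=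
  ((wG9.getD i ([], [])).1.map gL).prod * V * ((wG9.getD i ([], [])).2.map gL).prod

theorem T_eq : T = gL 0 * gL 0 * gL 0 * gL 0 := by
  rw [T, t0, map_mul, map_mul, map_mul, gE_el (by norm_num)]

theorem means_TWV : Means mT T ∧ Means mV V ∧ Means mVi V⁻¹ := by
  obtain ⟨h1, h2, h3, h4, h5, h6⟩ := base_chk
  have hok := base_ok
  simp only [List.all_eq_true, List.mem_cons, List.not_mem_nil, or_false, forall_eq_or_imp, forall_eq] at hok
  obtain ⟨oT, oW, oWi, oV, oVi⟩ := hok
  have hlT : List.Forall₂ Means [lett111 0, lett111 0, lett111 0, lett111 0] [gL 0, gL 0, gL 0, gL 0] := by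
    simp [means_gL]
  have hTi : Means mT T⁻¹ := by
    have h := means_inv hlT oT h1
    simp only [List.prod_cons, List.prod_nil, mul_one, ← mul_assoc] at h
    rwa [T_eq]
  have hWi : Means mWi W⁻¹ := means_inv (means_letts wW) oWi h3
  have hW : Means mW W := means_of_inv oW hWi h4
  have hrep : List.Forall₂ Means (List.replicate wE mW) (List.replicate wE W) := by
    generalize wE = n
    induction n with
    | zero => exact List.Forall₂.nil
    | succ n ih => exact List.Forall₂.cons hW ih
  have hVi : Means mVi V⁻¹ := by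
    have h := means_inv hrep oVi h5
    rwa [List.prod_replicate] at h
  exact ⟨means_of_inv oT hTi h2, means_of_inv oV hVi h6, hVi⟩

theorem vv_chk {i : ℕ} (hi : i < 9) : oneChk i = true := by
  by_cases h : i < 5
  · exact List.all_eq_true.1 three_chkA i (List.mem_range.2 h)
  · have := List.all_eq_true.1 three_chkB (i - 5) (List.mem_range.2 (by omega))
    rwa [show 5 + (i - 5) = i by omega] at this

theorem means_vv {i : ℕ} (hi : i < 9) : Means (mA i) (vv i) ∧ Means (mAi i) (vv i)⁻¹ := by
  have hok := List.all_eq_true.1 three_ok i (List.mem_range.2 hi)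
  rw [Bool.and_eq_true] at hok
  have h := vv_chk hi
  simp only [oneChk, Bool.and_eq_true] at h
  obtain ⟨⟨⟨⟨h1, h2⟩, -⟩, -⟩, -⟩ := h
  have hl : List.Forall₂ Means (letts (wG9.getD i ([], [])).1 ++ mV :: letts (wG9.getD i ([], [])).2)
      ((wG9.getD i ([], [])).1.map gL ++ V :: (wG9.getD i ([], [])).2.map gL) :=
    means_append (means_letts _) (List.Forall₂.cons means_TWV.2.1 (means_letts _))
  have hi' : Means (mAi i) (vv i)⁻¹ := by
    have h' := means_inv hl hok.2 (by simpa [List.append_assoc] using h1)
    rwa [List.prod_append, List.prod_cons, ← mul_assoc] at h'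
  exact ⟨means_of_inv hok.1 hi' h2, hi'⟩

theorem rep_injective (hLy : Cfsg.IsLy LyP) : Function.Injective rep := by
  haveI := hLy.1
  rw [← MonoidHom.ker_eq_bot_iff]
  refine (Subgroup.Normal.eq_bot_or_eq_top (MonoidHom.normal_ker rep)).resolve_right fun h => ?_
  have ha : rep (gL 0) = 1 := by rw [← MonoidHom.mem_ker, h]; exact Subgroup.mem_top _
  have h3 := rep_gL 0
  rw [ha, Units.val_one] at h3
  have h4 := congrFun (congrFun h3.symm 0) 1
  unfold md111 dec at h4
  rw [show (((1 : Fin 111) : ℕ)) = 1 from rfl, show (((0 : Fin 111) : ℕ)) = 0 from rfl,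
    a_entry, Matrix.one_apply_ne (by decide)] at h4
  exact absurd h4 (by decide)

theorem vv_cube (hLy : Cfsg.IsLy LyP) {i : ℕ} (hi : i < 9) : vv i ^ 3 = 1 := by
  have h := vv_chk hi
  simp only [oneChk, Bool.and_eq_true] at h
  obtain ⟨⟨⟨-, h3⟩, -⟩, -⟩ := h
  have hm := (means_vv hi).1
  have e := rep_one (l := [vv i, vv i, vv i]) (by simp [hm]) h3
  apply rep_injective hLy
  rw [map_one, ← e]
  congr 1
  simp [pow_succ, mul_assoc]

theorem vv_comm (hLy : Cfsg.IsLy LyP) {i : ℕ} (hi : i < 9) : T * vv i * T * (vv i)⁻¹ = 1 := by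
  have h := vv_chk hi
  simp only [oneChk, Bool.and_eq_true] at h
  obtain ⟨⟨-, h4⟩, -⟩ := h
  obtain ⟨hm, hmi⟩ := means_vv hi
  have e := rep_one (l := [T, vv i, T, (vv i)⁻¹]) (by simp [hm, hmi, means_TWV.1]) h4
  apply rep_injective hLy
  rw [map_one, ← e]
  congr 1
  simp [mul_assoc]

theorem vv_pair_lt (hLy : Cfsg.IsLy LyP) {i j : ℕ} (hij : i < j) (hj : j < 9) :
    vv i * vv j * vv i * vv j * T = 1 := by
  have h := List.all_eq_true.1 pair_chk i (List.mem_range.2 (by omega))
  have h' := List.all_eq_true.1 h j (List.mem_range.2 hj)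
  rcases Bool.or_eq_true _ _ ▸ h' with h1 | h1
  · exact absurd (Nat.le_of_ble_eq_true h1) (by omega)
  have e := rep_one (l := [vv i, vv j, vv i, vv j, T])
    (by simp [(means_vv (show i < 9 by omega)).1, (means_vv hj).1, means_TWV.1]) h1
  apply rep_injective hLy
  rw [map_one, ← e]
  congr 1
  simp [mul_assoc]

end CfsgLib.Sporadic.CosetCert.LyCent
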