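import Cfsg.Agent.Lib.Sporadic.LyG2Five.MatBase
import Cfsg.Agent.Lib.Sporadic.LyCent.Data.Base111
import Cfsg.Agent.Lib.Sporadic.LyCent.Data.Three111
import Cfsg.Agent.Lib.Sporadic.LyCent.Data.Words

/-!
# Matrices to be checked for the double cover
-/

set_option autoImplicit false
set_option maxRecDepth 100000

namespace CfsgLib.Sporadic.CosetCert.LyCent

open LyG2Five

/-- One of the nine elements. -/
def mA (i : ℕ) : List ℕ := [mA0, mA1, mA2, mA3, mA4, mA5, mA6, mA7, mA8].getD i idRows

/-- The inverse of one of the nine elements. -/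
def mAi (i : ℕ) : List ℕ := [mAi0, mAi1, mAi2, mAi3, mAi4, mAi5, mAi6, mAi7, mAi8].getD i idRows

/-- The matrices of a word. -/
def letts (L : List ℕ) : List (List ℕ) := L.map lett111

/-- The relations of one element. -/
noncomputable def oneChk (i : ℕ) : Bool :=
  isOne111 (letts (wG9.getD i ([], [])).1 ++ mV :: (letts (wG9.getD i ([], [])).2 ++ [mAi i])) &&
    isOne111 [mA i, mAi i] && isOne111 [mA i, mA i, mA i] && isOne111 [mT, mA i, mT, mAi i] &&
    isOne111 (letts (wG9.getD i ([], [])).1 ++ letts (wG9.getD i ([], [])).2)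

/-- The relations of one element with the later ones. -/
noncomputable def pairChkA (i : ℕ) : Bool :=
  (List.range 9).all fun j => Nat.ble j i || isOne111 [mA i, mA j, mA i, mA j, mT]

end CfsgLib.Sporadic.CosetCert.LyCent
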