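import Cfsg.Agent.Lib.Sporadic.LyIndex.Upper
import Cfsg.Agent.Lib.Chevalley.G2InvClass

/-!
# The subgroup of the five letters is G₂(5): simplicity, one class of involutions, order of their centralisers
-/

set_option autoImplicit false
set_option maxRecDepth 100000

namespace CfsgLib.Sporadic.CosetCert.LyCent

open LyG2Five LyIndex Cfsg.Spor CfsgLib.Chevalley
open scoped MatrixGroups

attribute [local instance] factPrimeFive

theorem two_ne_zero' : (2 : ZMod 5) ≠ 0 := by decide

theorem odd_five : Odd (Fintype.card (ZMod 5)) := by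
  rw [ZMod.card]; decide

/-- The subgroup of pairs is the Chevalley group. -/
theorem equivGG : Nonempty (E ≃* G2Inv.GG (ZMod 5)) := by
  suffices h : Nonempty (E ≃* ↥(Cfsg.Lie.chevG2.group (ZMod 5))) by
    rw [← CfsgLib.Chevalley.Data.G2.datum_eq] at h
    exact h
  let π : E →* Cfsg.Lie.chevG2.group (ZMod 5) :=
    (reidx.symm.toMonoidHom.comp ((MonoidHom.snd _ _).comp E.subtype)).codRestrict _ fun e => by
      rw [← closure_u14, show Subgroup.closure (Set.range fun k => reidx.symm (u14 k)) =
        (Subgroup.closure (Set.range u14)).map reidx.symm.toMonoidHom by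
          rw [MonoidHom.map_closure, ← Set.range_comp]; rfl]
      exact Subgroup.mem_map_of_mem _ (range_snd ▸ Subgroup.mem_map_of_mem _ e.2)
  have hπ : Function.Injective π := fun x y h => by
    refine mE_injective ?_
    have h' := reidx.symm.injective (congrArg Subtype.val h)
    exact congrArg Units.val h'
  have hcard : Nat.card (Cfsg.Lie.chevG2.group (ZMod 5)) ≤ Nat.card E := by
    rw [card_E, Cfsg.Agent.S1059.result (ZMod.card 5)]
    norm_num
  exact ⟨MulEquiv.ofBijective π (hπ.bijective_of_nat_card_le hcard)⟩

theorem simple_E : IsSimpleGroup E := by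
  obtain ⟨e⟩ := equivGG
  have hs := (Cfsg.Agent.S1055.result (F := ZMod 5) ⟨2, by decide, by decide⟩).1
  rw [← CfsgLib.Chevalley.Data.G2.datum_eq] at hs
  exact e.isSimpleGroup

/-- The map to the presented group is injective. -/
theorem gE_injective : Function.Injective gE := by
  haveI := simple_E
  rw [← MonoidHom.ker_eq_bot_iff]
  refine (Subgroup.Normal.eq_bot_or_eq_top (MonoidHom.normal_ker gE)).resolve_right fun h => ?_
  have h1 : el 0 ∈ gE.ker := by rw [h]; exact Subgroup.mem_top _
  rw [MonoidHom.mem_ker, gE_el (by norm_num)] at h1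
  exact a_ne_one h1

theorem card_Hs : Nat.card Hs = 5859000000 := by
  rw [← Nat.card_congr (MonoidHom.ofInjective gE_injective).toEquiv, card_E]

/-- All involutions of the subgroup are conjugate. -/
theorem involutions_conj {x y : E} (hx : x * x = 1) (hx1 : x ≠ 1) (hy : y * y = 1) (hy1 : y ≠ 1) :
    IsConj x y := by
  obtain ⟨e⟩ := equivGG
  have key : ∀ u : E, u * u = 1 → u ≠ 1 → IsConj G2Inv.z (e u) := fun u hu hu1 =>
    G2Inv.isConj_z odd_five (by rw [← map_mul, hu, map_one]) fun h => hu1 (e.injective (h.trans (map_one e).symm))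
  have h := e.symm.toMonoidHom.map_isConj ((key x hx hx1).symm.trans (key y hy hy1))
  simpa using h

/-- The order of the centraliser of an involution. -/
theorem card_centralizer {x : E} (hx : x * x = 1) (hx1 : x ≠ 1) :
    Nat.card (Subgroup.centralizer ({x} : Set E)) = 14400 := by
  obtain ⟨e⟩ := equivGG
  obtain ⟨c, hc⟩ := isConj_iff.1
    (G2Inv.isConj_z odd_five (g := e x) (by rw [← map_mul, hx, map_one])
      fun h => hx1 (e.injective (h.trans (map_one e).symm)))
  let f : E ≃* G2Inv.GG (ZMod 5) := e.trans (MulAut.conj c⁻¹)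
  have hf : f x = G2Inv.z := by
    show c⁻¹ * e x * c⁻¹⁻¹ = _
    rw [← hc]; group
  have hmap : (Subgroup.centralizer ({x} : Set E)).map f.toMonoidHom = G2Inv.K := by
    rw [← G2Inv.centralizer_z two_ne_zero']
    ext g
    rw [Subgroup.mem_map_equiv, Subgroup.mem_centralizer_singleton_iff, Subgroup.mem_centralizer_singleton_iff]
    constructor
    · intro h
      have := congrArg f h
      rwa [map_mul, map_mul, f.apply_symm_apply, hf] at this
    · intro h
      apply f.injective
      rw [map_mul, map_mul, f.apply_symm_apply, hf]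
      exact h
  have := Subgroup.card_map_of_injective (K := Subgroup.centralizer ({x} : Set E)) (f := f.toMonoidHom) f.injective
  rw [hmap, G2Inv.card_K two_ne_zero', ZMod.card] at this
  exact this.symm

end CfsgLib.Sporadic.CosetCert.LyCent
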