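import Cfsg.Agent.Lib.Sporadic.LyCent.Centraliser
import Cfsg.Prelude.Def_Exceptional

/-!
# A simple presented Lyons group acts on 8835156 points with stabiliser G₂(5)
-/

set_option autoImplicit false
set_option maxRecDepth 100000

namespace CfsgLib.Sporadic.CosetCert.LyCent

open LyG2Five LyIndex Cfsg.Spor

attribute [local instance] factPrimeFive

attribute [local irreducible] rep vv V W

theorem simple_Hs : IsSimpleGroup Hs := by
  have := simple_E
  exact (MonoidHom.ofInjective gE_injective).symm.isSimpleGroup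

theorem cover_congr {A B K : Type*} [Group A] [Group B] [Group K] (f : A ≃* B)
    (h : Cfsg.IsNonsplitDoubleCover A K) : Cfsg.IsNonsplitDoubleCover B K := by
  obtain ⟨h1, ⟨h2⟩, h3⟩ := h
  have hmap : (Subgroup.center A).map f.toMonoidHom = Subgroup.center B := by
    ext b
    rw [Subgroup.mem_map_equiv, Subgroup.mem_center_iff, Subgroup.mem_center_iff]
    constructor
    · intro h b'
      have := congrArg f (h (f.symm b'))
      simpa using this
    · intro h a
      apply f.injective
      simpa using h (f a)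
  refine ⟨?_, ⟨(QuotientGroup.congr _ _ f hmap).symm.trans h2⟩, fun L hL => h3 (L.comap f.toMonoidHom) ?_⟩
  · rw [← hmap, Subgroup.card_map_of_injective f.injective, h1]
  refine ⟨fun p q h => ?_, fun a => ?_⟩
  · have hm : ∀ z : Subgroup.center A, f z ∈ Subgroup.center B := fun z => hmap ▸ Subgroup.mem_map_of_mem _ z.2
    have h' := @hL.1 (⟨f p.1, hm p.1⟩, ⟨f p.2, p.2.2⟩) (⟨f q.1, hm q.1⟩, ⟨f q.2, q.2.2⟩) (by
      show f (p.1 : A) * f (p.2 : A) = f (q.1 : A) * f (q.2 : A)
      rw [← map_mul, ← map_mul]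
      exact congrArg f h)
    simp only [Prod.mk.injEq, Subtype.mk.injEq, EmbeddingLike.apply_eq_iff_eq] at h'
    exact Prod.ext (Subtype.ext h'.1) (Subtype.ext (f.injective (congrArg Subtype.val h'.2)))
  · obtain ⟨⟨z, l⟩, hzl⟩ := hL.2 (f a)
    have hz : f.symm z ∈ Subgroup.center A := by
      have : (z : B) ∈ (Subgroup.center A).map f.toMonoidHom := hmap.symm ▸ z.2
      exact Subgroup.mem_map_equiv.1 this
    refine ⟨(⟨f.symm z, hz⟩, ⟨f.symm l, show f (f.symm l) ∈ L by rw [f.apply_symm_apply]; exact l.2⟩), ?_⟩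
    apply f.injective
    show f (f.symm (z : B) * f.symm (l : B)) = f a
    rw [map_mul, f.apply_symm_apply, f.apply_symm_apply]
    exact hzl

theorem exists_perm_rep (hLy : Cfsg.IsLy LyP) : ∃ H : Subgroup (Equiv.Perm (Fin 8835156)), Cfsg.IsLy H ∧
    MulAction.IsPretransitive H (Fin 8835156) ∧ Cfsg.IsG2 (MulAction.stabilizer H (0 : Fin 8835156)) ∧
    ∃ t : H, orderOf t = 2 ∧
      Cfsg.IsNonsplitDoubleCover (Subgroup.centralizer ({t} : Set H)) (alternatingGroup (Fin 11)) := by
  classical
  have := finite_LyP hLy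
  have hidx : Nat.card (LyP ⧸ Hs) = 8835156 := index_Hs hLy
  let e0 : LyP ⧸ Hs ≃ Fin 8835156 := Finite.equivFinOfCardEq hidx
  let e : LyP ⧸ Hs ≃ Fin 8835156 := e0.trans (Equiv.swap (e0 ((1 : LyP) : LyP ⧸ Hs)) 0)
  have he : e ((1 : LyP) : LyP ⧸ Hs) = 0 := Equiv.swap_apply_left _ _
  let π : LyP →* Equiv.Perm (Fin 8835156) :=
    e.permCongrHom.toMonoidHom.comp (MulAction.toPermHom LyP (LyP ⧸ Hs))
  have hπ : ∀ g x, π g (e x) = e (g • x) := fun g x => by
    show e (g • e.symm (e x)) = _
    rw [e.symm_apply_apply]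
  have hstab : ∀ g, π g 0 = 0 → g ∈ Hs := fun g h => by
    rw [← he, hπ] at h
    simpa [QuotientGroup.eq] using e.injective h
  have hsimp := hLy.1
  have hinj : Function.Injective π := by
    rw [← MonoidHom.ker_eq_bot_iff]
    refine π.normal_ker.eq_bot_or_eq_top.resolve_right fun h => ?_
    have hall : (⊤ : Subgroup LyP) ≤ Hs := fun g _ => hstab g (by
      rw [MonoidHom.mem_ker.1 (h ▸ Subgroup.mem_top g), Equiv.Perm.one_apply])
    have h1 := index_Hs hLy
    rw [top_le_iff.1 hall, Subgroup.index_top] at h1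
    omega
  let eH : LyP ≃* π.range := MonoidHom.ofInjective hinj
  refine ⟨π.range, ⟨?_, ?_⟩, ⟨fun a b => ?_⟩, ⟨?_, 5, ⟨5, 1, Nat.prime_five.prime, by norm_num, rfl⟩, by norm_num, ?_⟩,
    eH T, ?_, ?_⟩
  · exact eH.symm.isSimpleGroup
  · rw [← Nat.card_congr eH.toEquiv, hLy.2]
  · obtain ⟨g, hg⟩ := MulAction.exists_smul_eq LyP (e.symm a) (e.symm b)
    refine ⟨eH g, ?_⟩
    show π g a = b
    rw [← e.apply_symm_apply a, hπ, hg, e.apply_symm_apply]
  rotate_left 2
  · rw [MulEquiv.orderOf_eq]
    have : Fact (Nat.Prime 2) := ⟨Nat.prime_two⟩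
    exact orderOf_eq_prime (by rw [pow_two]; exact T_sq) T_ne
  · have hm : CT.map eH.toMonoidHom = Subgroup.centralizer ({eH T} : Set π.range) := by
      ext g
      rw [Subgroup.mem_map_equiv, Subgroup.mem_centralizer_singleton_iff, Subgroup.mem_centralizer_singleton_iff]
      constructor
      · intro h
        have := congrArg eH h
        rwa [map_mul, map_mul, eH.apply_symm_apply] at this
      · intro h
        apply eH.injective
        rwa [map_mul, map_mul, eH.apply_symm_apply]
    exact cover_congr ((CT.equivMapOfInjective eH.toMonoidHom eH.injective).trans (MulEquiv.subgroupCongr hm))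
      (double_cover hLy)
  all_goals
    let f : Hs →* MulAction.stabilizer π.range (0 : Fin 8835156) :=
      MonoidHom.codRestrict (eH.toMonoidHom.comp Hs.subtype) _ fun a => by
        show π (a : LyP) 0 = 0
        rw [← he, hπ]
        congr 1
        exact QuotientGroup.eq.2 (by simp)
    have hf : Function.Bijective f := by
      refine ⟨fun a b h => Subtype.ext (eH.injective (congrArg Subtype.val h)), ?_⟩
      rintro ⟨⟨_, g, rfl⟩, hg⟩
      exact ⟨⟨g, hstab g hg⟩, rfl⟩
  · have := simple_Hs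
    exact (MulEquiv.ofBijective f hf).symm.isSimpleGroup
  · rw [← Nat.card_congr (MulEquiv.ofBijective f hf).toEquiv, card_Hs]
    norm_num

end CfsgLib.Sporadic.CosetCert.LyCent
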