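import Cfsg.Agent.Lib.Sporadic.LyCent.StabSound
import Cfsg.Prelude.Def_Sporadic

/-!
# An involution of the subgroup has centraliser of order at most 14400 · 8315
-/

set_option autoImplicit false
set_option maxRecDepth 100000

namespace CfsgLib.Sporadic.CosetCert.LyCent

open LyG2Five LyIndex PackedMatrix
open scoped Matrix

attribute [local instance] factPrimeFive

attribute [local irreducible] PackedMatrix.mul PackedMatrix.ok vimg scaleIs getN wordM lineAt mulIs matAt sqOne

theorem index_Hs (h : Cfsg.IsLy LyP) : Hs.index = 8835156 := by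
  have h1 : Hs.index * 5859000000 = 51765179004000000 :=
    (congrArg (Hs.index * ·) card_Hs.symm).trans (Hs.index_mul_card.trans h.2)
  exact Nat.eq_of_mul_eq_mul_right (by norm_num) (h1.trans (by norm_num))

theorem five_bound (h : Hs.index = 8835156) : Nat.card (sqSet 1) ≤ 85000 := by
  classical
  have hcard : Nat.card (stab 1) = 300000 := stab_card h (by norm_num)
  obtain ⟨g, hg, hgs⟩ := tree_spec tree1 g1 g1_lt
  have hf := five1
  simp only [fiveOK, forceList_eq, Bool.and_eq_true, List.all_eq_true, List.mem_range] at hf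
  obtain ⟨⟨h5, hne⟩, hconj⟩ := hf
  have s2 : Stands (PackedMatrix.mul 5 14 (matAt m1_Tab g1) (matAt m1_Tab g1)) (g * g) :=
    ⟨ok_mul (by norm_num) (by norm_num) hgs.1 _, by
      rw [map_mul, hgs.2]; exact (dec_mul (by norm_num) (by norm_num) hgs.1 hgs.1).symm⟩
  have s4 : Stands (PackedMatrix.mul 5 14 (PackedMatrix.mul 5 14 (matAt m1_Tab g1) (matAt m1_Tab g1))
      (PackedMatrix.mul 5 14 (matAt m1_Tab g1) (matAt m1_Tab g1))) (g * g * (g * g)) :=
    ⟨ok_mul (by norm_num) (by norm_num) s2.1 _, by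
      rw [map_mul, s2.2]; exact (dec_mul (by norm_num) (by norm_num) s2.1 s2.1).symm⟩
  have hg5 : g ^ 5 = 1 := by
    have := stands_eq (mulIs_spec s4 hgs h5) stands_one
    rw [← this]; simp only [pow_succ, pow_zero, one_mul, mul_assoc]
  have hg1 : g ≠ 1 := fun e => by
    have : matAt m1_Tab g1 = one14 := md14_inj hgs.1 stands_one.1 (by rw [← hgs.2, ← stands_one.2, e])
    rw [this, eqList_refl] at hne
    exact absurd hne (by decide)
  have hc : ∀ m < 12, ∃ c : stab 1, Stands (matAt w1_Tab m) ((c : E) * g * (c : E)⁻¹) := by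
    intro m hm
    obtain ⟨⟨⟨hlt, hok⟩, hX⟩, -⟩ := hconj m hm
    obtain ⟨c, hc, hcs⟩ := tree_spec tree1 _ (Nat.le_of_ble_eq_true hlt)
    refine ⟨⟨c, hc⟩, ?_⟩
    exact quot_spec hok hcs (mulIs_spec hcs hgs hX) (by
      rw [mulIs, show ∀ l, eqList l l = true from eqList_refl])
  choose c hcs using hc
  let c' : ℕ → stab 1 := fun m => if hm : m < 12 then c m hm else 1
  have hsmall := centralizer_small (⟨g, hg⟩ : stab 1) 12 c' (by
    intro i hi j hj e
    simp only [c', dif_pos hi, dif_pos hj] at e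
    have e' : (c i hi : E) * g * (c i hi : E)⁻¹ = (c j hj : E) * g * (c j hj : E)⁻¹ := congrArg Subtype.val e
    have hm : matAt w1_Tab i = matAt w1_Tab j := md14_inj (hcs i hi).1 (hcs j hj).1
      (by rw [← (hcs i hi).2, ← (hcs j hj).2, e'])
    rcases lt_trichotomy i j with h' | h' | h'
    · have := (hconj j hj).2 i h'
      rw [hm, eqList_refl] at this
      exact absurd this (by decide)
    · exact h'
    · have := (hconj i hi).2 j h'
      rw [hm, eqList_refl] at this
      exact absurd this (by decide))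
  have hg5' : (⟨g, hg⟩ : stab 1) ^ 5 = 1 := Subtype.ext hg5
  have hb := sq_one_bound (⟨g, hg⟩ : stab 1) hg5' fun e => hg1 (congrArg Subtype.val e)
  have hz : (Subgroup.zpowers (⟨g, hg⟩ : stab 1)).index = 60000 := by
    have h1 := (Subgroup.zpowers (⟨g, hg⟩ : stab 1)).index_mul_card
    have : Fact (Nat.Prime 5) := ⟨by decide⟩
    rw [hcard, Nat.card_zpowers, orderOf_eq_prime hg5' fun e => hg1 (congrArg Subtype.val e)] at h1
    omega
  have he : Nat.card (sqSet 1) ≤ Nat.card {x : stab 1 // x * x = 1} :=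
    Nat.card_le_card_of_injective (fun x => ⟨⟨x.1, x.2.1⟩, Subtype.ext x.2.2⟩) fun x y e =>
      Subtype.ext (congrArg (fun v : {x : stab 1 // x * x = 1} => (v.1 : E)) e)
  rw [hcard] at hsmall
  omega

/-- Bounds for the numbers of fixed cosets in the classes. -/
def fixMax : List ℕ := [1, 4080, 1514, 1060, 152]

theorem class_bound (h : Hs.index = 8835156) {t : E} (ht : t * t = 1) (ht1 : t ≠ 1) {i : ℕ} (hi : i < 5) :
    Nat.card {q : E ⧸ stab i // q.out⁻¹ * t * q.out ∈ stab i} ≤ fixMax.getD i 0 := by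
  have hX : ∀ k : E, k⁻¹ * t * k ∈ stab i → k⁻¹ * t * k ∈ sqSet i := fun k hk => ⟨hk, by
    calc k⁻¹ * t * k * (k⁻¹ * t * k) = k⁻¹ * (t * t) * k := by group
      _ = 1 := by rw [ht]; group⟩
  have hb := fixed_bound t (stab i) (sqSet i) hX
  rw [card_centralizer ht ht1, stab_card h hi] at hb
  interval_cases i
  · have h0 : Nat.card {q : E ⧸ stab 0 // q.out⁻¹ * t * q.out ∈ stab 0} ≤ Nat.card (E ⧸ stab 0) :=
      Nat.card_le_card_of_injective _ Subtype.val_injective
    have h1 := stab_index (show 0 < 5 by norm_num)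
    exact h0.trans h1
  · have := five_bound h
    simp only [stabCard, fixMax, List.getD_cons_succ, List.getD_cons_zero] at hb ⊢
    omega
  · have := count_sound (by norm_num) (stab_card h (show 2 < 5 by norm_num)).le innerTree2 outerTree2 inner2 outer2 count2
    simp only [stabCard, fixMax, List.getD_cons_succ, List.getD_cons_zero] at hb ⊢
    omega
  · have := count_sound (by norm_num) (stab_card h (show 3 < 5 by norm_num)).le innerTree3 outerTree3 inner3 outer3 count3
    simp only [stabCard, fixMax, List.getD_cons_succ, List.getD_cons_zero] at hb ⊢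
    omega
  · have := count_sound (by norm_num) (stab_card h (show 4 < 5 by norm_num)).le innerTree4 outerTree4 inner4 outer4 count4
    simp only [stabCard, fixMax, List.getD_cons_succ, List.getD_cons_zero] at hb ⊢
    omega

theorem fix_bound (h : Hs.index = 8835156) {t : E} (ht : t * t = 1) (ht1 : t ≠ 1) :
    Nat.card {c : LyP ⧸ Hs // gE t • c = c} ≤ 6807 := by
  have : Finite (LyP ⧸ Hs) := Finite.of_surjective _ classMap_surj
  let D := Σ i : Fin 5, {q : E ⧸ stab i // q.out⁻¹ * t * q.out ∈ stab i}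
  have hsur : ∀ c : {c : LyP ⧸ Hs // gE t • c = c}, ∃ d : D, classMap ⟨d.1, d.2.1⟩ = c.1 := by
    rintro ⟨c, hc⟩
    obtain ⟨⟨i, q⟩, rfl⟩ := classMap_surj c
    refine ⟨⟨i, q, ?_⟩, rfl⟩
    have e : classMap ⟨i, q⟩ = QuotientGroup.mk (gE q.out * (wG i)⁻¹) := by
      conv_lhs => rw [← QuotientGroup.out_eq' q]
      rfl
    rw [e, MulAction.Quotient.smul_mk, QuotientGroup.eq] at hc
    have h1 := inv_mem (s := Hs) hc
    show RS (wG i * gE (q.out⁻¹ * t * q.out)) (wG i)
    rw [RS]
    convert h1 using 1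
    simp only [smul_eq_mul, map_mul, map_inv, mul_inv_rev, inv_inv]
    group
  choose d hd using hsur
  have hinj : Function.Injective d := fun a b e => Subtype.ext (by rw [← hd a, ← hd b, e])
  refine (Nat.card_le_card_of_injective d hinj).trans ?_
  rw [Nat.card_sigma]
  refine (Finset.sum_le_sum fun (i : Fin 5) _ => class_bound h ht ht1 i.2).trans ?_
  decide

/-- The bound for the centraliser. -/
theorem centralizer_bound (h : Hs.index = 8835156) {t : E} (ht : t * t = 1) (ht1 : t ≠ 1) :
    Nat.card (Subgroup.centralizer ({gE t} : Set LyP)) ≤ 14400 * 6807 := by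
  have : Finite (LyP ⧸ Hs) := Finite.of_surjective _ classMap_surj
  set C := Subgroup.centralizer ({gE t} : Set LyP) with hC
  have hcomm : ∀ c : C, gE t * (c : LyP) = c * gE t := fun c =>
    (Subgroup.mem_centralizer_singleton_iff.1 c.2).symm
  let o : C → {c : LyP ⧸ Hs // gE t • c = c} := fun c => ⟨QuotientGroup.mk (c : LyP), by
    rw [MulAction.Quotient.smul_mk, QuotientGroup.eq, smul_eq_mul, hcomm c,
      show ((c : LyP) * gE t)⁻¹ * c = (gE t)⁻¹ by group]
    exact inv_mem ⟨t, rfl⟩⟩
  choose r hr using fun f : {f : {c : LyP ⧸ Hs // gE t • c = c} // ∃ c : C, o c = f} => f.2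
  have hk : ∀ c : C, ∃ k : Subgroup.centralizer ({t} : Set E),
      gE k = ((r ⟨o c, c, rfl⟩ : C) : LyP)⁻¹ * c := by
    intro c
    have h1 := congrArg Subtype.val (hr ⟨o c, c, rfl⟩)
    obtain ⟨k, hk⟩ := QuotientGroup.eq.1 h1
    refine ⟨⟨k, Subgroup.mem_centralizer_singleton_iff.2 (gE_injective ?_)⟩, hk⟩
    have h2 := hcomm ((r ⟨o c, c, rfl⟩)⁻¹ * c)
    simp only [Subgroup.coe_mul, Subgroup.coe_inv, ← hk] at h2
    rw [map_mul, map_mul, h2]
  choose k hk' using hk
  have hinj : Function.Injective fun c => (o c, k c) := fun a b e => by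
    simp only [Prod.mk.injEq] at e
    refine Subtype.ext ?_
    have ha := hk' a
    have hb := hk' b
    rw [e.2] at ha
    have : r ⟨o a, a, rfl⟩ = r ⟨o b, b, rfl⟩ := congrArg r (Subtype.ext e.1)
    rw [this, hb] at ha
    exact (mul_left_cancel ha).symm
  refine (Nat.card_le_card_of_injective _ hinj).trans ?_
  rw [Nat.card_prod, card_centralizer ht ht1, mul_comm]
  exact Nat.mul_le_mul_left _ (fix_bound h ht ht1)

end CfsgLib.Sporadic.CosetCert.LyCent
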