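import Mathlib.GroupTheory.Index
import Mathlib.GroupTheory.Coset.Card
import Mathlib.GroupTheory.OrderOfElement
import Mathlib.GroupTheory.SpecificGroups.Cyclic
import Mathlib.Algebra.Group.End
import Mathlib.Tactic.Group
import Mathlib.Data.Set.Finite.Lattice
import Mathlib.Data.Finite.Sum
import Mathlib.Data.Finite.Prod
import Mathlib.Tactic.NormNum

/-!
# Bounds for numbers of involutions and of fixed cosets
-/

set_option autoImplicit false

namespace CfsgLib.Sporadic.CosetCert.LyCent

variable {A : Type*} [Group A] [Finite A]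

/-- Several conjugates make the centraliser small. -/
theorem centralizer_small (g : A) (n : ℕ) (c : ℕ → A)
    (hinj : ∀ i < n, ∀ j < n, c i * g * (c i)⁻¹ = c j * g * (c j)⁻¹ → i = j) :
    n * Nat.card (Subgroup.centralizer ({g} : Set A)) ≤ Nat.card A := by
  let F : Fin n × Subgroup.centralizer ({g} : Set A) → A := fun q => c q.1 * q.2
  have hF : Function.Injective F := by
    rintro ⟨i, a⟩ ⟨j, b⟩ e
    have e' : c i * (a : A) = c j * b := e
    have key : ∀ (k : Fin n) (u : Subgroup.centralizer ({g} : Set A)),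
        (c k * u) * g * (c k * u)⁻¹ = c k * g * (c k)⁻¹ := fun k u => by
      have h := Subgroup.mem_centralizer_singleton_iff.1 u.2
      calc (c k * u) * g * (c k * u)⁻¹ = c k * ((u : A) * g * (u : A)⁻¹) * (c k)⁻¹ := by group
        _ = _ := by rw [h]; group
    obtain rfl : i = j := by
      refine Fin.ext (hinj i i.2 j j.2 ?_)
      rw [← key i a, ← key j b, e']
    exact Prod.ext rfl (Subtype.ext (mul_left_cancel e'))
  have := Nat.card_le_card_of_injective F hF
  rwa [Nat.card_prod, Nat.card_eq_fintype_card, Fintype.card_fin] at this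

/-- The solutions of `x * x = 1` are few when an element of order five has a small centraliser. -/
theorem sq_one_bound (g : A) (hg : g ^ 5 = 1) (hg1 : g ≠ 1) :
    Nat.card {x : A // x * x = 1} ≤ (Subgroup.zpowers g).index + Nat.card (Subgroup.centralizer ({g} : Set A)) := by
  classical
  have hord : orderOf g = 5 := by
    have : Fact (Nat.Prime 5) := ⟨by decide⟩
    exact orderOf_eq_prime hg hg1
  let flips : A → Prop := fun x => x * g * x⁻¹ = g⁻¹
  let F : {x : A // x * x = 1} → (A ⧸ Subgroup.zpowers g) ⊕ {x : A // flips x} := fun x =>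
    if h : flips x.1 then Sum.inr ⟨x.1, h⟩ else Sum.inl (QuotientGroup.mk x.1)
  have hF : Function.Injective F := by
    rintro ⟨x, hx⟩ ⟨y, hy⟩ e
    simp only [F] at e
    by_cases h1 : flips x <;> by_cases h2 : flips y <;> simp only [h1, h2, dite_true, dite_false] at e
    · have e' := Sum.inr.inj e
      simp only [Subtype.mk.injEq] at e'
      exact Subtype.ext e'
    · cases e
    · cases e
    · obtain ⟨j, hj⟩ := Subgroup.mem_zpowers_iff.1 (QuotientGroup.eq.1 (Sum.inl.inj e))
      refine Subtype.ext ?_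
      show x = y
      by_contra hne
      have hinv : x⁻¹ = x := inv_eq_of_mul_eq_one_right hx
      have hy' : y = x * g ^ j := by rw [hj]; group
      have hflip : x * g ^ j * x⁻¹ = (g ^ j)⁻¹ := by
        rw [hinv]
        refine eq_inv_of_mul_eq_one_left ?_
        rw [hy'] at hy
        rw [mul_assoc]
        exact hy
      have h5 : ¬ (5 : ℤ) ∣ j := fun hd => hne (by
        rw [hy', orderOf_dvd_iff_zpow_eq_one.1 (show ((orderOf g : ℕ) : ℤ) ∣ j by rw [hord]; exact hd), mul_one])
      apply h1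
      obtain ⟨i, hi⟩ : ∃ i : ℤ, (5 : ℤ) ∣ j * i - 1 := by
        have : j % 5 = 1 ∨ j % 5 = 2 ∨ j % 5 = 3 ∨ j % 5 = 4 := by omega
        rcases this with h | h | h | h
        · exact ⟨1, by omega⟩
        · exact ⟨3, by omega⟩
        · exact ⟨2, by omega⟩
        · exact ⟨4, by omega⟩
      have hgi : (g ^ j) ^ i = g := by
        have h := orderOf_dvd_iff_zpow_eq_one.1 (show ((orderOf g : ℕ) : ℤ) ∣ j * i - 1 by rw [hord]; exact hi)
        rw [zpow_sub, zpow_one, mul_inv_eq_one] at h
        rw [← zpow_mul, h]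
      show x * g * x⁻¹ = g⁻¹
      rw [← hgi, ← conj_zpow, hflip, inv_zpow]
  refine (Nat.card_le_card_of_injective F hF).trans ?_
  rw [Nat.card_sum, Subgroup.index]
  refine Nat.add_le_add_left ?_ _
  rcases isEmpty_or_nonempty {x : A // flips x} with h | ⟨⟨x0, h0⟩⟩
  · simp
  · refine Nat.card_le_card_of_injective (fun x => (⟨x0⁻¹ * x.1, ?_⟩ : Subgroup.centralizer ({g} : Set A))) ?_
    · rw [Subgroup.mem_centralizer_singleton_iff]
      have hx : x.1 * g * x.1⁻¹ = x0 * g * x0⁻¹ := x.2.trans h0.symm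
      calc x0⁻¹ * x.1 * g = x0⁻¹ * (x.1 * g * x.1⁻¹) * x.1 := by group
        _ = g * (x0⁻¹ * x.1) := by rw [hx]; group
    · intro a b e
      exact Subtype.ext (mul_left_cancel (congrArg Subtype.val e))

/-- Cosets of `S` fixed by `t` are at most (centraliser) · (conjugates of `t` in `S`) / (order of `S`). -/
theorem fixed_bound (t : A) (S : Subgroup A) (X : Set A)
    (hX : ∀ k : A, k⁻¹ * t * k ∈ S → k⁻¹ * t * k ∈ X) :
    Nat.card {q : A ⧸ S // q.out⁻¹ * t * q.out ∈ S} * Nat.card S ≤
      Nat.card (Subgroup.centralizer ({t} : Set A)) * Nat.card X := by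
  rw [← Nat.card_prod, ← Nat.card_prod]
  let k : {q : A ⧸ S // q.out⁻¹ * t * q.out ∈ S} × S → A := fun p => p.1.1.out * p.2
  have hk : ∀ p, (k p)⁻¹ * t * k p ∈ X := fun p => by
    refine hX _ ?_
    have h : (p.2 : A)⁻¹ * (p.1.1.out⁻¹ * t * p.1.1.out) * p.2 ∈ S :=
      mul_mem (mul_mem (inv_mem p.2.2) p.1.2) p.2.2
    simpa [k, mul_assoc] using h
  have hkinj : Function.Injective k := by
    rintro ⟨⟨q, hq⟩, s⟩ ⟨⟨r, hr⟩, u⟩ e
    have e' : q.out * (s : A) = r.out * u := e
    have : q = r := by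
      rw [← QuotientGroup.out_eq' q, ← QuotientGroup.out_eq' r]
      have h1 := congrArg (fun x => (QuotientGroup.mk x : A ⧸ S)) e'
      simpa using h1
    subst this
    exact Prod.ext rfl (Subtype.ext (mul_left_cancel e'))
  choose r hr using fun y : {y : X // ∃ c : A, c⁻¹ * t * c = y.1} => y.2
  let F : {q : A ⧸ S // q.out⁻¹ * t * q.out ∈ S} × S → Subgroup.centralizer ({t} : Set A) × X := fun p =>
    let y : {y : X // ∃ c : A, c⁻¹ * t * c = y.1} := ⟨⟨_, hk p⟩, k p, rfl⟩
    (⟨k p * (r y)⁻¹, by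
      rw [Subgroup.mem_centralizer_singleton_iff]
      have h : (r y)⁻¹ * t * r y = (k p)⁻¹ * t * k p := hr y
      calc k p * (r y)⁻¹ * t = k p * ((r y)⁻¹ * t * r y) * (r y)⁻¹ := by group
        _ = t * (k p * (r y)⁻¹) := by rw [h]; group⟩, ⟨_, hk p⟩)
  refine Nat.card_le_card_of_injective F fun p p' e => hkinj ?_
  obtain ⟨e1, e2⟩ := Prod.ext_iff.1 e
  have e1' := congrArg Subtype.val e1
  simp only [F] at e1' e2
  simp only [← e2] at e1'
  exact mul_right_cancel e1'

end CfsgLib.Sporadic.CosetCert.LyCent
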