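import Cfsg.Agent.Lib.Sporadic.LyIndex.Cover
import Cfsg.Agent.Lib.Sporadic.LyCent.Data.Stab1
import Cfsg.Agent.Lib.Sporadic.LyCent.Data.Stab2
import Cfsg.Agent.Lib.Sporadic.LyCent.Data.Stab3
import Cfsg.Agent.Lib.Sporadic.LyCent.Data.Stab4

/-!
# Tests on listed elements of the stabilisers of the classes
-/

set_option autoImplicit false
set_option maxRecDepth 100000

namespace CfsgLib.Sporadic.CosetCert.LyCent

open LyIndex PackedMatrix

/-- An entry of a table in chunks of 16. -/
def get16 {α : Type} (d : α) (T : List (List α)) (n : ℕ) : α :=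
  (T.getD (Nat.div n 16) []).getD (Nat.mod n 16) d

/-- A listed matrix. -/
def matAt (M : List (List (List ℕ))) (j : ℕ) : List ℕ := get16 [] M j

/-- A listed matrix is one or a previous one times a stabiliser element of the class. -/
noncomputable def treeOne (i : ℕ) (M : List (List (List ℕ))) (P : List (List (ℕ × ℕ))) (j : ℕ) : Bool :=
  (Nat.beq j 0 && eqList one14 (matAt M j)) ||
    (Nat.blt (get16 (0, 0) P j).1 j && Nat.blt (get16 (0, 0) P j).2 numNd &&
      match getN (get16 (0, 0) P j).2 with
      | .s i' K => Nat.beq i' i && mulIs (matAt M (get16 (0, 0) P j).1) K (matAt M j)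
      | _ => false)

/-- All listed matrices are in the stabiliser. -/
noncomputable def treeOK (i n : ℕ) (M : List (List (List ℕ))) (P : List (List (ℕ × ℕ))) : Bool :=
  (List.range n).all (treeOne i M P)

/-- The inner list fixes the line and has no repetitions. -/
noncomputable def innerOK (n b : ℕ) (M : List (List (List ℕ))) (C : List (List ℕ)) : Bool :=
  (List.range n).all fun j => scaleIs (vimg (lineAt b) (matAt M j)) (get16 0 C j) b &&
    (List.range j).all fun k => !eqList (matAt M k) (matAt M j)

/-- The outer list moves the line to different lines. -/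
noncomputable def outerOK (n b : ℕ) (M : List (List (List ℕ))) (Y C : List (List ℕ)) : Bool :=
  (List.range n).all fun j => Nat.blt (get16 0 Y j) 3906 &&
    scaleIs (vimg (lineAt b) (matAt M j)) (get16 0 C j) (get16 0 Y j) &&
    (List.range j).all fun k => !Nat.beq (get16 0 Y k) (get16 0 Y j)

/-- The square of the product of two matrices is one. -/
noncomputable def sqOne (K T : List ℕ) : Bool :=
  (List.range 14).all fun r => Nat.beq (vimg (vimg (vimg (K.getD r 0) T) K) T) (Nat.shiftLeft 1 (Nat.mul 16 r))

/-- The number of products squaring to one is at most `B`. -/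
noncomputable def countOK (nK nT B : ℕ) (K T : List (List (List ℕ))) : Bool :=
  Nat.ble (((List.range nK).map fun l => (List.range nT).countP fun j => sqOne (matAt K l) (matAt T j)).sum) B

/-- The test of an element of order five and twelve conjugates. -/
noncomputable def fiveOK : Bool :=
  forceList (PackedMatrix.mul 5 14 (matAt m1_Tab g1) (matAt m1_Tab g1)) (fun A =>
    forceList (PackedMatrix.mul 5 14 A A) (fun Q => mulIs Q (matAt m1_Tab g1) one14)) &&
  !eqList (matAt m1_Tab g1) one14 &&
  (List.range 12).all fun m => Nat.blt (get16 0 c1_Tab m) 13 && ok 5 14 (matAt w1_Tab m) &&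
    forceList (PackedMatrix.mul 5 14 (matAt w1_Tab m) (matAt m1_Tab (get16 0 c1_Tab m)))
      (fun X => mulIs (matAt m1_Tab (get16 0 c1_Tab m)) (matAt m1_Tab g1) X) &&
    (List.range m).all fun k => !eqList (matAt w1_Tab k) (matAt w1_Tab m)

end CfsgLib.Sporadic.CosetCert.LyCent
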