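import Cfsg.Agent.Lib.Sporadic.LyCent.InvCount
import Cfsg.Agent.Lib.Sporadic.LyCent.EGroup
import Cfsg.Agent.Lib.Sporadic.LyCent.Checks.Five
import Cfsg.Agent.Lib.Sporadic.LyCent.Checks.Class2
import Cfsg.Agent.Lib.Sporadic.LyCent.Checks.Class3
import Cfsg.Agent.Lib.Sporadic.LyCent.Checks.Class4

/-!
# Few solutions of `x * x = 1` in the stabilisers of the classes
-/

set_option autoImplicit false
set_option maxRecDepth 100000

namespace CfsgLib.Sporadic.CosetCert.LyCent

open LyG2Five LyIndex PackedMatrix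
open scoped Matrix

attribute [local instance] factPrimeFive

attribute [local irreducible] PackedMatrix.mul PackedMatrix.ok vimg scaleIs getN wordM lineAt mulIs matAt sqOne

/-- The orders of the stabilisers. -/
def stabCard : List ℕ := [5859000000, 300000, 1008, 2880, 6048]

theorem stab_card (h : Hs.index = 8835156) {i : ℕ} (hi : i < 5) :
    Nat.card (stab i) = stabCard.getD i 0 := by
  have : Finite (LyP ⧸ Hs) := Finite.of_surjective _ classMap_surj
  have h1 : 8835156 ≤ ∑ i : Fin 5, (stab i).index := by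
    rw [← h, Subgroup.index]
    refine (Nat.card_le_card_of_surjective _ classMap_surj).trans ?_
    rw [Nat.card_sigma]
    rfl
  have h2 : ∀ j : Fin 5, (stab j).index = classLen.getD j 0 := by
    intro j
    refine le_antisymm (stab_index j.2) ?_
    by_contra hlt
    have : ∑ i : Fin 5, (stab i).index < ∑ i : Fin 5, classLen.getD i 0 :=
      Finset.sum_lt_sum (fun i _ => stab_index i.2) ⟨j, Finset.mem_univ _, by omega⟩
    have e : ∑ i : Fin 5, classLen.getD i 0 = 8835156 := by decide
    omega
  have h3 := (stab i).index_mul_card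
  rw [h2 ⟨i, hi⟩, card_E] at h3
  have e : classLen.getD i 0 * stabCard.getD i 0 = 5859000000 := by interval_cases i <;> rfl
  rw [← e] at h3
  refine Nat.eq_of_mul_eq_mul_left ?_ h3
  show 0 < classLen.getD i 0
  interval_cases i <;> decide

theorem tree_spec {i n : ℕ} {M : List (List (List ℕ))} {P : List (List (ℕ × ℕ))} (h : treeOK i n M P = true) :
    ∀ j < n, ∃ k ∈ stab i, Stands (matAt M j) k := by
  intro j
  induction j using Nat.strong_induction_on with
  | _ j ih =>
    intro hj
    have h' := List.all_eq_true.1 h j (List.mem_range.2 hj)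
    simp only [treeOne, Bool.or_eq_true, Bool.and_eq_true] at h'
    rcases h' with ⟨-, h1⟩ | ⟨⟨hp, hg⟩, hm⟩
    · exact ⟨1, one_mem _, eqList_spec _ _ h1 ▸ stands_one⟩
    · split at hm
      · rename_i i' K hK
        rw [Bool.and_eq_true] at hm
        obtain rfl := Nat.eq_of_beq_eq_true hm.1
        obtain ⟨k, hk, hKs⟩ := stab_mem (Nat.le_of_ble_eq_true hg) hK
        obtain ⟨l, hl, hls⟩ := ih _ (Nat.le_of_ble_eq_true hp) (lt_trans (Nat.le_of_ble_eq_true hp) hj)
        exact ⟨l * k, mul_mem hl hk, mulIs_spec hls hKs hm.2⟩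
      · exact absurd hm Bool.false_ne_true

theorem beq_false_ne {a b : ℕ} (h : (!Nat.beq a b) = true) : a ≠ b := by
  rintro rfl
  rw [Nat.beq_refl] at h
  exact absurd h (by decide)

theorem eqList_refl : ∀ l : List ℕ, eqList l l = true := by
  intro l
  induction l with
  | nil => rfl
  | cons a t ih =>
    show (Nat.beq a a && eqList t t) = true
    rw [Nat.beq_refl, ih]
    rfl

theorem md14_inj {A B : List ℕ} (hA : ok 5 14 A = true) (hB : ok 5 14 B = true) (h : md14 A = md14 B) :
    A = B := by
  have la := length_of_ok hA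
  have lb := length_of_ok hB
  refine List.ext_getElem (la.trans lb.symm) fun r h1 h2 => ?_
  have hr : r < 14 := la ▸ h1
  have e := eq_of_vec (w := A.getD r 0) (w' := B.getD r 0) (row_of_ok hA hr) (row_of_ok hB hr)
    (congrFun h ⟨r, hr⟩)
  rwa [List.getD_eq_getElem _ _ h1, List.getD_eq_getElem _ _ h2] at e

theorem unit_row (r : ℕ) (hr : r < 14) : red 5 14 (Nat.shiftLeft 1 (Nat.mul 16 r)) = Nat.shiftLeft 1 (Nat.mul 16 r) := by
  revert r
  decide +kernel

theorem red_vimg (w : ℕ) (K : List ℕ) : red 5 14 (vimg w K) = vimg w K := by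
  unfold vimg
  rw [forced_eq, forced_eq, red_eq, red_eq]
  refine Finset.sum_congr rfl fun k hk => ?_
  rw [dig_sum 14 _ (fun j _ => (Nat.mod_lt _ (by norm_num)).trans_le (by norm_num)) k (Finset.mem_range.1 hk),
    Nat.mod_mod]

theorem sqOne_complete {K T : List ℕ} {k u : E} (hK : Stands K k) (hT : Stands T u) (h : k * u * (k * u) = 1) :
    sqOne K T = true := by
  unfold sqOne
  refine List.all_eq_true.2 fun r hr => ?_
  rw [List.mem_range] at hr
  rw [Nat.beq_eq]
  have hrow : red 5 14 (K.getD r 0) = K.getD r 0 := row_of_ok hK.1 hr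
  refine eq_of_vec (red_vimg _ _) (unit_row r hr) ?_
  rw [vimg_spec (red_vimg _ _) hT.1, vimg_spec (red_vimg _ _) hK.1, vimg_spec hrow hT.1]
  have e : md14 K * md14 T * md14 K * md14 T = 1 := by
    rw [← hK.2, ← hT.2, ← map_mul, ← map_mul, ← map_mul, mul_assoc (k * u), h, map_one]
  have e' : vec (K.getD r 0) = (md14 K) ⟨r, hr⟩ := rfl
  rw [e', Matrix.vecMul_vecMul, Matrix.vecMul_vecMul, ← Matrix.mul_apply_eq_vecMul,
    show md14 K * (md14 T * (md14 K * md14 T)) = 1 by rw [← mul_assoc, ← mul_assoc, e]]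
  funext j
  show (1 : M14) ⟨r, hr⟩ j = ((dig (Nat.shiftLeft 1 (Nat.mul 16 r)) j : ℕ) : ZMod 5)
  rw [Matrix.one_apply]
  have key : ∀ r < 14, ∀ j < 14, dig (Nat.shiftLeft 1 (Nat.mul 16 r)) j = if r = j then 1 else 0 := by
    decide +kernel
  rw [key r hr j j.2]
  by_cases he : r = (j : ℕ)
  · rw [if_pos he, if_pos (Fin.ext he)]; rfl
  · rw [if_neg he, if_neg fun e => he (congrArg Fin.val e)]; rfl

/-- The solutions of `x * x = 1` in a stabiliser. -/
def sqSet (i : ℕ) : Set E := {x | x ∈ stab i ∧ x * x = 1}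

theorem card_countP (n : ℕ) (f : ℕ → Bool) :
    Nat.card {j : Fin n // f j = true} = (List.range n).countP f := by
  classical
  have h : (List.range n).countP f = Nat.count (fun j => f j = true) n := by simp [Nat.count]
  rw [h, Nat.count_eq_card_filter_range, Nat.card_eq_fintype_card, Fintype.card_subtype]
  refine Finset.card_bij (fun j _ => (j : ℕ)) (fun j hj => ?_) (fun a _ b _ e => Fin.ext e) fun b hb => ?_
  · simp only [Finset.mem_filter, Finset.mem_univ, true_and] at hj
    exact Finset.mem_filter.2 ⟨Finset.mem_range.2 j.2, hj⟩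
  · rw [Finset.mem_filter, Finset.mem_range] at hb
    exact ⟨⟨b, hb.1⟩, by simpa using hb.2, rfl⟩

theorem count_sound {i nK nT b B : ℕ} {K T : List (List (List ℕ))} {P Q : List (List (ℕ × ℕ))}
    {C Y D : List (List ℕ)} (hb : b < 3906) (hcard : Nat.card (stab i) ≤ nK * nT)
    (hK : treeOK i nK K P = true) (hT : treeOK i nT T Q = true) (hin : innerOK nK b K C = true)
    (hout : outerOK nT b T Y D = true) (hcnt : countOK nK nT B K T = true) :
    Nat.card (sqSet i) ≤ B := by
  classical
  choose k hk hks using tree_spec hK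
  choose u hu hus using tree_spec hT
  simp only [innerOK, List.all_eq_true, Bool.and_eq_true, List.mem_range] at hin
  simp only [outerOK, List.all_eq_true, Bool.and_eq_true, List.mem_range] at hout
  let F : Fin nK × Fin nT → stab i := fun q =>
    ⟨k q.1 q.1.2 * u q.2 q.2.2, mul_mem (hk q.1 q.1.2) (hu q.2 q.2.2)⟩
  have hfix : ∀ l (hl : l < nK), k l hl ∈ lineStab b := fun l hl =>
    (on_self b).step hb hb (hks l hl) (hin l hl).1
  have hout' : ∀ j (hj : j < nT), get16 0 Y j < 3906 ∧
      On (vec (lineAt b) ᵥ* mE (u j hj)) (get16 0 Y j) := fun j hj =>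
    ⟨Nat.le_of_ble_eq_true (hout j hj).1.1,
      (on_self b).step hb (Nat.le_of_ble_eq_true (hout j hj).1.1) (hus j hj) (hout j hj).1.2⟩
  have hinj : Function.Injective F := by
    rintro ⟨⟨l, hl⟩, ⟨j, hj⟩⟩ ⟨⟨l', hl'⟩, ⟨j', hj'⟩⟩ e
    have e' : k l hl * u j hj = k l' hl' * u j' hj' := congrArg Subtype.val e
    have e'' : u j hj = ((k l hl)⁻¹ * k l' hl') * u j' hj' := by rw [mul_assoc, ← e']; group
    have h1 : On (vec (lineAt b) ᵥ* mE (u j hj)) (get16 0 Y j') := by
      rw [e'', map_mul, ← Matrix.vecMul_vecMul]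
      exact On.act (mul_mem (inv_mem (hfix l hl)) (hfix l' hl')) (on_self b) _ (hout' j' hj').2
    have hY := On.unique (hout' j hj).1 (hout' j' hj').1 (hout' j hj).2 h1
    obtain rfl : j = j' := by
      rcases lt_trichotomy j j' with h | h | h
      · exact absurd hY (beq_false_ne ((hout j' hj').2 j h))
      · exact h
      · exact absurd hY.symm (beq_false_ne ((hout j hj).2 j' h))
    have hkk : k l hl = k l' hl' := mul_right_cancel e'
    obtain rfl : l = l' := by
      have hm : matAt K l = matAt K l' := md14_inj (hks l hl).1 (hks l' hl').1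
        (by rw [← (hks l hl).2, ← (hks l' hl').2, hkk])
      rcases lt_trichotomy l l' with h | h | h
      · have := (hin l' hl').2 l h
        rw [hm, eqList_refl] at this
        exact absurd this (by decide)
      · exact h
      · have := (hin l hl).2 l' h
        rw [hm, eqList_refl] at this
        exact absurd this (by decide)
    rfl
  have hsurj : Function.Surjective F :=
    (hinj.bijective_of_nat_card_le (by simpa [Nat.card_prod] using hcard)).2
  let Z := {q : Fin nK × Fin nT // sqOne (matAt K q.1) (matAt T q.2) = true}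
  have hle : Nat.card (sqSet i) ≤ Nat.card Z := by
    choose q hq using hsurj
    refine Nat.card_le_card_of_injective (fun x => (⟨q ⟨x.1, x.2.1⟩, ?_⟩ : Z)) ?_
    · refine sqOne_complete (hks _ (q ⟨x.1, x.2.1⟩).1.2) (hus _ (q ⟨x.1, x.2.1⟩).2.2) ?_
      have e := congrArg Subtype.val (hq ⟨x.1, x.2.1⟩)
      change k _ _ * u _ _ = x.1 at e
      rw [e]
      exact x.2.2
    · intro x y e
      have e1 : q ⟨x.1, x.2.1⟩ = q ⟨y.1, y.2.1⟩ := congrArg Subtype.val e
      have e2 : (⟨x.1, x.2.1⟩ : stab i) = ⟨y.1, y.2.1⟩ := (hq _).symm.trans ((congrArg F e1).trans (hq _))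
      exact Subtype.ext (Subtype.mk.inj e2)
  refine hle.trans (le_trans (le_of_eq ?_) (Nat.le_of_ble_eq_true hcnt))
  rw [Nat.card_congr (Equiv.subtypeProdEquivSigmaSubtype fun (a : Fin nK) (b : Fin nT) =>
    sqOne (matAt K a) (matAt T b) = true), Nat.card_sigma]
  calc ∑ a : Fin nK, Nat.card {b : Fin nT // sqOne (matAt K a) (matAt T b) = true}
      = ∑ a : Fin nK, (List.range nT).countP (fun j => sqOne (matAt K a) (matAt T j)) :=
        Finset.sum_congr rfl fun a _ => card_countP nT fun j => sqOne (matAt K a) (matAt T j)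
    _ = _ := Fin.sum_univ_eq_sum_range (fun l => (List.range nT).countP fun j => sqOne (matAt K l) (matAt T j)) nK

end CfsgLib.Sporadic.CosetCert.LyCent
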